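import Cfsg.Agent.Lib.SLDeg48.Core
import Cfsg.Agent.Lib.Linear.Order
import Cfsg.Agent.Lib.Induced.DegreeIndex
import Cfsg.Agent.Lib.Characters.Transitive

/-!
The minimal degree of a non-trivial irreducible representation of `SL_n(q)`, `n ≥ 3`.
-/

set_option autoImplicit false
set_option linter.unusedSectionVars false

namespace Cfsg.Agent.Lib.SLDeg48

open Matrix Module
open scoped LinearAlgebra.Projectivization

variable {F : Type*} [Field F] [Fintype F] {n : ℕ}

theorem sum_mul_pred (q m : ℕ) (hq : 1 ≤ q) :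
    (∑ i ∈ Finset.range m, q ^ (i + 1)) * (q - 1) + q = q ^ (m + 1) := by
  induction m with
  | zero => simp
  | succ m ih =>
    rw [Finset.sum_range_succ, add_mul, add_right_comm, ih]
    obtain ⟨r, rfl⟩ : ∃ r, q = r + 1 := ⟨q - 1, by omega⟩
    simp only [Nat.add_sub_cancel]
    ring

theorem bound_eq (hn : 1 ≤ n) :
    (Fintype.card F ^ n - Fintype.card F) / (Fintype.card F - 1) =
      ∑ i ∈ Finset.range (n - 1), Fintype.card F ^ (i + 1) := by
  have hq := Fintype.one_lt_card (α := F)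
  have h := sum_mul_pred (Fintype.card F) (n - 1) (by omega)
  rw [show n - 1 + 1 = n by omega] at h
  rw [← h, Nat.add_sub_cancel, Nat.mul_div_cancel _ (by omega)]

theorem bound_le_two_mul (hn : 2 ≤ n) :
    (∑ i ∈ Finset.range (n - 1), Fintype.card F ^ (i + 1)) ≤
      2 * (Fintype.card F ^ (n - 1) - 1) := by
  have hq := Fintype.one_lt_card (α := F)
  obtain ⟨r, hr⟩ : ∃ r, Fintype.card F = r + 2 := ⟨Fintype.card F - 2, by omega⟩
  obtain ⟨m, hm⟩ : ∃ m, n - 1 = m := ⟨n - 1, rfl⟩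
  have h := sum_mul_pred (Fintype.card F) m (by omega)
  have hp : 1 ≤ Fintype.card F ^ m := Nat.one_le_pow _ _ (by omega)
  rw [hm]
  generalize (∑ i ∈ Finset.range m, Fintype.card F ^ (i + 1)) = B at *
  obtain ⟨P, hP⟩ : ∃ P, Fintype.card F ^ m = P + 1 := ⟨_, (Nat.sub_add_cancel hp).symm⟩
  rw [pow_succ, hP, hr, show r + 2 - 1 = r + 1 by omega] at h
  rw [hP, Nat.add_sub_cancel]
  refine Nat.le_of_mul_le_mul_right (c := r + 1) ?_ (Nat.succ_pos r)
  nlinarith

variable {M : Type*} [AddCommGroup M] [Module ℂ M] [FiniteDimensional ℂ M]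
variable (ρ : Representation ℂ (SL' n F) M)

theorem lower_or (hn : 3 ≤ n)
    (hex : (n, Fintype.card F) ≠ (3, 2) ∧ (n, Fintype.card F) ≠ (3, 4) ∧
      (n, Fintype.card F) ≠ (4, 2) ∧ (n, Fintype.card F) ≠ (4, 3))
    (hM : 0 < finrank ℂ M) (hfix : ∀ z : M, (∀ g, ρ g z = z) → z = 0) :
    ∑ i ∈ Finset.range (n - 1), Fintype.card F ^ (i + 1) ≤ finrank ℂ M ∨
      (n = 3 ∧ finrank ℂ M + 1 = Fintype.card F + Fintype.card F ^ 2) := by
  classical
  have hnt : Nontrivial (AddChar F ℂ) := by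
    rw [← Fintype.one_lt_card_iff_nontrivial, AddChar.card_eq]
    exact Fintype.one_lt_card
  obtain ⟨ψ, hψ1⟩ := exists_ne (1 : AddChar F ℂ)
  have hψ : ψ.IsPrimitive := AddChar.IsPrimitive.of_ne_one hψ1
  have h2d : ∀ σ : Representation ℂ (SL' n F) M,
      dd σ ψ ⟨0, by omega⟩ (show 0 + 1 < n by omega) ≤ 1 ∨
        ∑ i ∈ Finset.range (n - 1), Fintype.card F ^ (i + 1) ≤ finrank ℂ M := by
    intro σ
    have h : finrank ℂ (Z σ 0) = finrank ℂ (Z σ (0 + 1)) +
        (Fintype.card F ^ (n - 0 - 1) - 1) * dd σ ψ ⟨0, by omega⟩ (show 0 + 1 < n by omega) :=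
      finrank_Z σ hψ hn (k := ⟨0, by omega⟩) (show 0 + 1 < n by omega)
    rw [Z_zero, finrank_top, Nat.sub_zero] at h
    refine or_iff_not_imp_left.2 fun hd => ?_
    refine (bound_le_two_mul (F := F) (n := n) (by omega)).trans ?_
    rw [mul_comm]
    refine le_trans (Nat.mul_le_mul_left _ (show 2 ≤ _ from Nat.lt_of_not_le hd)) ?_
    omega
  rcases h2d ρ with hd | hd
  swap
  · exact Or.inl hd
  by_cases hZ : Z ρ 1 = ⊥
  · obtain ⟨w, hw0, hw⟩ := exists_col_fixed ρ hψ hn hex hM hd hZ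
    have hZ' := Z_one_invT ρ (by omega) hw0 hw
    rcases h2d (ρ.comp (invT n F)) with hd' | hd'
    swap
    · exact Or.inl hd'
    refine core (ρ.comp (invT n F)) hψ hn (fun z hz => hfix z fun g => ?_) hd' hZ'
    have := hz (invT n F g)
    rwa [MonoidHom.comp_apply, invT_invT] at this
  · exact core ρ hψ hn hfix hd hZ

theorem no_fixed {k : ℕ} (σ : Representation ℂ (SL' n F) (Fin k → ℂ)) (hσ : σ.IsIrreducible)
    (hk : 2 ≤ k) {z : Fin k → ℂ} (hz : ∀ g, σ g z = z) : z = 0 := by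
  by_contra hz0
  let S : Subrepresentation σ :=
    ⟨ℂ ∙ z, fun g w hw => by
      obtain ⟨c, rfl⟩ := Submodule.mem_span_singleton.1 hw
      rw [map_smul, hz]
      exact Submodule.smul_mem _ _ (Submodule.mem_span_singleton_self z)⟩
  rcases hσ.eq_bot_or_eq_top S with hS | hS
  · have h1 : z ∈ S.toSubmodule := Submodule.mem_span_singleton_self z
    rw [hS] at h1
    exact hz0 ((Submodule.mem_bot ℂ).1 h1)
  · have h2 : (ℂ ∙ z) = (⊤ : Submodule ℂ (Fin k → ℂ)) := congrArg Subrepresentation.toSubmodule hS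
    have h3 := finrank_span_singleton (K := ℂ) hz0
    rw [h2, finrank_top, Module.finrank_fin_fun] at h3
    omega

theorem lower_bound (hn : 3 ≤ n)
    (hex : (n, Fintype.card F) ≠ (3, 2) ∧ (n, Fintype.card F) ≠ (3, 4) ∧
      (n, Fintype.card F) ≠ (4, 2) ∧ (n, Fintype.card F) ≠ (4, 3))
    {k : ℕ} (σ : Representation ℂ (SL' n F) (Fin k → ℂ)) (hσ : σ.IsIrreducible) (hk : 2 ≤ k) :
    (Fintype.card F ^ n - Fintype.card F) / (Fintype.card F - 1) ≤ k := by
  rw [bound_eq (by omega)]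
  rcases lower_or σ hn hex (by rw [Module.finrank_fin_fun]; omega)
      (fun z hz => no_fixed σ hσ hk hz) with h | ⟨h3, h⟩
  · rwa [Module.finrank_fin_fun] at h
  exfalso
  subst h3
  rw [Module.finrank_fin_fun] at h
  haveI : σ.IsIrreducible := hσ
  classical
  have hdvd := (Induced.DegreeIndex.finrank_dvd_center_index σ).trans
    (Subgroup.index_dvd_card _)
  rw [Module.finrank_fin_fun] at hdvd
  have hcard := Linear.sub_one_mul_card_SL (F := F) 3 (by norm_num)
  have hdvd2 : k ∣ ∏ i : Fin 3, (Fintype.card F ^ 3 - Fintype.card F ^ (i : ℕ)) := by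
    rw [← hcard]
    exact Dvd.dvd.mul_left hdvd _
  have hq := Fintype.one_lt_card (α := F)
  set q : ℤ := (Fintype.card F : ℤ) with hqdef
  have hk' : (k : ℤ) = q ^ 2 + q - 1 := by
    have : (k : ℤ) + 1 = q + q ^ 2 := by rw [hqdef]; exact_mod_cast h
    linarith
  have hodd : IsCoprime (k : ℤ) 2 := by
    rw [hk']
    rcases Int.even_or_odd q with ⟨r, hr⟩ | ⟨r, hr⟩
    · exact ⟨-1, 2 * r ^ 2 + r, by rw [hr]; ring⟩
    · exact ⟨1, -(2 * r ^ 2 + 3 * r), by rw [hr]; ring⟩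
  have hz : (k : ℤ) ∣ (q ^ 3 - 1) * ((q ^ 3 - q) * (q ^ 3 - q ^ 2)) := by
    have h0 := Int.natCast_dvd_natCast.2 hdvd2
    rw [Fin.prod_univ_three] at h0
    simp only [Fin.val_zero, Fin.val_one, Fin.val_two, pow_zero, pow_one] at h0
    rw [Nat.cast_mul, Nat.cast_mul, Nat.cast_sub (Nat.one_le_pow _ _ (by omega)),
      Nat.cast_sub (Nat.le_self_pow (by norm_num) _),
      Nat.cast_sub (Nat.pow_le_pow_right (by omega) (by norm_num)), mul_assoc] at h0
    push_cast at h0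
    exact h0
  have hcq : IsCoprime (k : ℤ) q := by rw [hk']; exact ⟨-1, q + 1, by ring⟩
  have hc1 : IsCoprime (k : ℤ) (q - 1) := by rw [hk']; exact ⟨1, -(q + 2), by ring⟩
  have hc2 : IsCoprime (k : ℤ) (q + 1) := by rw [hk']; exact ⟨-1, q, by ring⟩
  have hc3 : IsCoprime (k : ℤ) (q ^ 2 + q + 1) := by
    rw [show q ^ 2 + q + 1 = 2 + (k : ℤ) * 1 by rw [hk']; ring]
    exact IsCoprime.add_mul_left_right hodd 1
  have hall : IsCoprime (k : ℤ) ((q ^ 3 - 1) * ((q ^ 3 - q) * (q ^ 3 - q ^ 2))) := by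
    rw [show (q ^ 3 - 1) * ((q ^ 3 - q) * (q ^ 3 - q ^ 2)) =
      ((q - 1) * (q ^ 2 + q + 1)) * ((q * ((q - 1) * (q + 1))) * (q * (q * (q - 1)))) by ring]
    exact (hc1.mul_right hc3).mul_right ((hcq.mul_right (hc1.mul_right hc2)).mul_right
      (hcq.mul_right (hcq.mul_right hc1)))
  obtain ⟨u, v, huv⟩ := hall
  have h1 : (k : ℤ) ∣ 1 := by
    rw [← huv]
    exact dvd_add (dvd_mul_left _ _) (hz.mul_left v)
  have := Int.eq_one_of_dvd_one (Int.natCast_nonneg k) h1
  omega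

theorem exists_irreducible (F : Type*) [Field F] [Fintype F] (n : ℕ) (hn : 2 ≤ n) :
    ∃ ρ : Representation ℂ (SL' n F)
      (Fin ((Fintype.card F ^ n - Fintype.card F) / (Fintype.card F - 1)) → ℂ),
      ρ.IsIrreducible := by
  classical
  have hfin : finrank F (Fin n → F) = n := Module.finrank_fin_fun F
  have hcard : Nat.card (ℙ F (Fin n → F)) = ∑ i ∈ Finset.range n, Fintype.card F ^ i := by
    rw [Projectivization.card_of_finrank F (Fin n → F) hfin, Nat.card_eq_fintype_card]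
  obtain ⟨m, rfl⟩ : ∃ m, n = m + 1 := ⟨n - 1, by omega⟩
  rw [Finset.sum_range_succ', pow_zero] at hcard
  have hb := bound_eq (F := F) (n := m + 1) (by omega)
  rw [Nat.add_sub_cancel] at hb
  have h2 : 2 ≤ Nat.card (ℙ F (Fin (m + 1) → F)) := by
    rw [hcard]
    have : 1 ≤ ∑ i ∈ Finset.range m, Fintype.card F ^ (i + 1) :=
      le_trans (Nat.one_le_pow _ _ Fintype.card_pos)
        (Finset.single_le_sum (f := fun i => Fintype.card F ^ (i + 1)) (fun _ _ => Nat.zero_le _)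
          (Finset.mem_range.2 (show 0 < m by omega)))
    omega
  have := MulAction.isPretransitive_of_is_two_pretransitive (G := SL' (m + 1) F)
    (α := ℙ F (Fin (m + 1) → F))
  obtain ⟨d, ρ, hρ, hχ⟩ := (Characters.Transitive.isIrrCharacter_iff
    (G := SL' (m + 1) F) (ℙ F (Fin (m + 1) → F)) h2).2 inferInstance
  have hd := congrFun hχ 1
  rw [Representation.char_one, Module.finrank_fin_fun] at hd
  simp only [Characters.Transitive.permChar] at hd
  rw [Nat.card_congr (show MulAction.fixedBy (ℙ F (Fin (m + 1) → F)) (1 : SL' (m + 1) F) ≃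
    ℙ F (Fin (m + 1) → F) from Equiv.subtypeUnivEquiv fun x => one_smul _ x), hcard] at hd
  rw [hb]
  obtain rfl : d = ∑ i ∈ Finset.range m, Fintype.card F ^ (i + 1) := by
    have : (d : ℂ) = ((∑ i ∈ Finset.range m, Fintype.card F ^ (i + 1) : ℕ) : ℂ) := by
      rw [hd]; push_cast; ring
    exact_mod_cast this
  exact ⟨ρ, hρ⟩

end Cfsg.Agent.Lib.SLDeg48
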