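import Mathlib

/-!
Linear algebra of a chain of rank-one idempotents satisfying braid relations.
-/

set_option autoImplicit false

namespace Cfsg.Agent.Lib.SLDeg48

open Module

variable {W : Type*} [AddCommGroup W] [Module ℂ W]

theorem sandwich (A₁ A₂ : Module.End ℂ W) (q : ℂ) (hq : q + 1 ≠ 0) (i₁ : A₁ * A₁ = A₁)
    (i₂ : A₂ * A₂ = A₂)
    (h : (q • (1 : Module.End ℂ W) - (q + 1) • A₁) * (q • 1 - (q + 1) • A₂) *
        (q • 1 - (q + 1) • A₁) =
      (q • 1 - (q + 1) • A₂) * (q • 1 - (q + 1) • A₁) * (q • 1 - (q + 1) • A₂)) :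
    A₁ * A₂ * A₁ - A₂ * A₁ * A₂ = (q / (q + 1) ^ 2) • (A₁ - A₂) := by
  simp only [sub_mul, mul_sub, smul_mul_assoc, mul_smul_comm, one_mul, mul_one, smul_smul,
    smul_sub, i₁, i₂] at h
  have key : (q + 1) ^ 3 • (A₁ * A₂ * A₁ - A₂ * A₁ * A₂) =
      ((q + 1) ^ 2 * q - (q + 1) * q ^ 2) • (A₁ - A₂) := by
    linear_combination (norm := module) -(1 : ℂ) • h
  refine smul_right_injective (Module.End ℂ W) (pow_ne_zero 3 hq) ?_
  show (q + 1) ^ 3 • _ = (q + 1) ^ 3 • _
  rw [key, smul_smul]
  congr 1
  field_simp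
  ring

variable [FiniteDimensional ℂ W]

theorem exists_rank_one (A : Module.End ℂ W) (hA : A * A = A) (h0 : A ≠ 0)
    (h1 : finrank ℂ (LinearMap.range A) ≤ 1) :
    ∃ (a : W) (b : W →ₗ[ℂ] ℂ), b a = 1 ∧ ∀ v, A v = b v • a := by
  obtain ⟨v₀, hv₀⟩ : ∃ v, A v ≠ 0 := by
    by_contra hcon
    push Not at hcon
    exact h0 (LinearMap.ext hcon)
  set a := A v₀ with ha
  have hmem : a ∈ LinearMap.range A := LinearMap.mem_range_self _ _
  have hspan : LinearMap.range A = ℂ ∙ a := by
    refine (Submodule.eq_of_le_of_finrank_le ?_ ?_).symm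
    · exact (Submodule.span_singleton_le_iff_mem _ _).2 hmem
    · rw [finrank_span_singleton hv₀]
      exact h1
  have hr : ∀ v, A v ∈ ℂ ∙ a := fun v => hspan ▸ LinearMap.mem_range_self _ v
  refine ⟨a, (LinearEquiv.toSpanNonzeroSingleton ℂ W a hv₀).symm.toLinearMap.comp
    (A.codRestrict (ℂ ∙ a) hr), ?_, fun v => ?_⟩
  · have haa : A a = a := by rw [ha, ← Module.End.mul_apply, hA]
    show (LinearEquiv.toSpanNonzeroSingleton ℂ W a hv₀).symm ⟨A a, hr a⟩ = 1
    rw [LinearEquiv.symm_apply_eq]
    apply Subtype.ext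
    simp [haa]
  · have h2 := (LinearEquiv.toSpanNonzeroSingleton ℂ W a hv₀).apply_symm_apply ⟨A v, hr v⟩
    exact (congrArg Subtype.val h2).symm

/-- Two commuting rank-one idempotents are equal or orthogonal. -/
theorem commute_rank_one {a a' : W} {b b' : W →ₗ[ℂ] ℂ} (ha : b a = 1) (ha' : b' a' = 1)
    (hc : ∀ v, b (b' v • a') • a = b' (b v • a) • a') :
    (∀ v, b v • a = b' v • a') ∨ (b a' = 0 ∧ b' a = 0) := by
  simp only [map_smul, smul_eq_mul] at hc
  by_cases h0 : b' a = 0
  · refine Or.inr ⟨?_, h0⟩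
    have h1 := hc a'
    rw [h0, mul_zero, zero_smul, ha', one_mul] at h1
    exact (smul_eq_zero.1 h1).resolve_right (fun e => by simp [e] at ha)
  · have h1 := hc a
    rw [ha, one_mul] at h1
    refine Or.inl fun v => ?_
    have h2 := hc v
    have hne : b a' ≠ 0 := by
      intro e
      rw [e, mul_zero, zero_smul, eq_comm] at h1
      exact h0 ((smul_eq_zero.1 h1).resolve_right (fun e => by simp [e] at ha'))
    have h4 : a = (b a')⁻¹ • a' := by
      rw [eq_inv_smul_iff₀ hne]
      refine smul_right_injective W h0 ?_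
      show b' a • b a' • a = b' a • a'
      rw [smul_smul, h1]
    have h5 : b' v * b a' * (b a')⁻¹ = b v * b' a := by
      have h6 : (b' v * b a' * (b a')⁻¹) • a' = (b v * b' a) • a' := by
        rw [← h2, h4, smul_smul]
      exact smul_left_injective ℂ (fun e => by simp [e] at ha') h6
    have h7 : b' a * b a' = 1 := by
      have h8 : (b' a * b a' * (b a')⁻¹) • a' = b' a • a' := by
        rw [mul_inv_cancel_right₀ hne]
      have h9 : b (a) = (b a')⁻¹ * b a' := by
        conv_lhs => rw [h4, map_smul, smul_eq_mul]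
      have h10 : b' a = (b a')⁻¹ := by
        conv_lhs => rw [h4, map_smul, ha', smul_eq_mul, mul_one]
      rw [h10, inv_mul_cancel₀ hne]
    rw [mul_inv_cancel_right₀ hne] at h5
    rw [h4, smul_smul, h5]
    congr 1
    rw [eq_inv_of_mul_eq_one_left h7]

/-- A chain of rank-one projections with constant positive link is independent. -/
theorem chain_le_finrank {m : ℕ} (a : ℕ → W) (b : ℕ → W →ₗ[ℂ] ℂ) {q : ℕ} (hq : 1 ≤ q)
    (h1 : ∀ i, i < m → b i (a i) = 1)
    (h0 : ∀ i j, i < m → j < m → (i + 2 ≤ j ∨ j + 2 ≤ i) → b i (a j) = 0)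
    (hadj : ∀ i, i + 1 < m → b i (a (i + 1)) * b (i + 1) (a i) = (q : ℂ) / ((q : ℂ) + 1) ^ 2) :
    m ≤ finrank ℂ W := by
  have hli : LinearIndependent ℂ (fun i : Fin m => a i.val) := by
    rw [Fintype.linearIndependent_iff]
    intro g hg
    let l : ℕ → ℂ := fun i => if h : i < m then g ⟨i, h⟩ else 0
    have hl : ∀ i : Fin m, l i.val = g i := fun i => by simp [l, i.isLt]
    have hsum : ∑ i ∈ Finset.range m, l i • a i = 0 := by
      rw [← Fin.sum_univ_eq_sum_range]
      simpa [hl] using hg
    have heq : ∀ i, i < m → ∑ j ∈ Finset.range m, l j * b i (a j) = 0 := by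
      intro i _
      have := congrArg (b i) hsum
      simpa [map_sum] using this
    have hrow : ∀ i, i < m →
        (if i = 0 then 0 else l (i - 1) * b i (a (i - 1))) + l i +
          (if i + 1 < m then l (i + 1) * b i (a (i + 1)) else 0) = 0 := by
      intro i hi
      have hterm : ∀ j ∈ Finset.range m, l j * b i (a j) =
          (if j + 1 = i then l j * b i (a j) else 0) + (if j = i then l j else 0) +
            (if j = i + 1 then l j * b i (a j) else 0) := by
        intro j hj
        rw [Finset.mem_range] at hj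
        by_cases c1 : j + 1 = i
        · rw [if_pos c1, if_neg (by omega : j ≠ i), if_neg (by omega : j ≠ i + 1), add_zero,
            add_zero]
        by_cases c2 : j = i
        · subst c2
          rw [if_neg c1, if_pos rfl, if_neg (by omega : j ≠ j + 1), h1 j hj, mul_one, zero_add,
            add_zero]
        by_cases c3 : j = i + 1
        · rw [if_neg c1, if_neg c2, if_pos c3, zero_add, zero_add]
        rw [if_neg c1, if_neg c2, if_neg c3, h0 i j hi hj (by omega), mul_zero, add_zero, add_zero]
      have := heq i hi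
      rw [Finset.sum_congr rfl hterm, Finset.sum_add_distrib, Finset.sum_add_distrib] at this
      refine Eq.trans ?_ this
      congr 1
      congr 1
      · rcases i with _ | i
        · simp
        · simp [Finset.sum_ite_eq', Nat.lt_of_succ_lt hi]
      · simp [hi]
      · simp [Finset.sum_ite_eq']
    have hq' : (0 : ℝ) < q := by exact_mod_cast hq
    have hfwd : ∀ i, i + 1 < m → ∃ u : ℝ, 1 ≤ u ∧ u * q ≤ q + 1 ∧
        l i = -(b i (a (i + 1)) * (u : ℂ) * l (i + 1)) := by
      intro i
      induction i with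
      | zero =>
        intro hi
        refine ⟨1, le_rfl, by linarith, ?_⟩
        have := hrow 0 (by omega)
        rw [if_pos rfl, if_pos hi] at this
        push_cast
        linear_combination this
      | succ i ih =>
        intro hi
        obtain ⟨u, hu1, hu2, hu3⟩ := ih (by omega)
        have hrw := hrow (i + 1) (by omega)
        rw [if_neg (Nat.succ_ne_zero i), if_pos hi, Nat.add_sub_cancel, hu3] at hrw
        set x : ℝ := (q : ℝ) / ((q : ℝ) + 1) ^ 2 with hx
        have hx0 : 0 < x := by positivity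
        have hxu : x * u ≤ 1 / ((q : ℝ) + 1) := by
          rw [hx, div_mul_eq_mul_div, div_le_div_iff₀ (by positivity) (by positivity)]
          nlinarith
        have h1' : 1 / ((q : ℝ) + 1) < 1 := by rw [div_lt_one (by positivity)]; linarith
        have hpos : 0 < 1 - x * u := by linarith
        refine ⟨(1 - x * u)⁻¹, ?_, ?_, ?_⟩
        · rw [one_le_inv₀ hpos]; nlinarith
        · rw [inv_mul_le_iff₀ hpos]
          have h2 : (q : ℝ) / ((q : ℝ) + 1) ≤ 1 - x * u := by
            have : (q : ℝ) / ((q : ℝ) + 1) = 1 - 1 / ((q : ℝ) + 1) := by field_simp; ring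
            linarith
          calc (q : ℝ) = (q : ℝ) / ((q : ℝ) + 1) * ((q : ℝ) + 1) := by field_simp
            _ ≤ _ := mul_le_mul_of_nonneg_right h2 (by positivity)
        · have hxc : b i (a (i + 1)) * b (i + 1) (a i) = (x : ℂ) := by
            rw [hadj i (by omega), hx]; push_cast; rfl
          have hne : (1 - (x : ℂ) * u) ≠ 0 := by exact_mod_cast hpos.ne'
          push_cast
          field_simp
          linear_combination hrw + (u : ℂ) * l (i + 1) * hxc
    have hzero : ∀ d, ∀ i, i < m → m ≤ i + d + 1 → l i = 0 := by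
      intro d
      induction d with
      | zero =>
        intro i hi hd
        have hrw := hrow i hi
        rw [if_neg (by omega : ¬ i + 1 < m), add_zero] at hrw
        rcases i with _ | i
        · rwa [if_pos rfl, zero_add] at hrw
        obtain ⟨u, hu1, hu2, hu3⟩ := hfwd i hi
        rw [if_neg (Nat.succ_ne_zero i), Nat.add_sub_cancel, hu3] at hrw
        have hxc := hadj i hi
        have hne : (1 : ℂ) - (q : ℂ) / ((q : ℂ) + 1) ^ 2 * u ≠ 0 := by
          have : (0 : ℝ) < 1 - (q : ℝ) / ((q : ℝ) + 1) ^ 2 * u := by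
            rw [sub_pos, div_mul_eq_mul_div, div_lt_one (by positivity)]
            nlinarith
          have h' := Complex.ofReal_ne_zero.2 this.ne'
          push_cast at h'
          exact h'
        refine (mul_eq_zero.1 (?_ : ((1 : ℂ) - (q : ℂ) / ((q : ℂ) + 1) ^ 2 * u) * l (i + 1) = 0)).resolve_left hne
        linear_combination hrw + (u : ℂ) * l (i + 1) * hxc
      | succ d ih =>
        intro i hi hd
        by_cases hle : m ≤ i + d + 1
        · exact ih i hi hle
        obtain ⟨u, -, -, hu3⟩ := hfwd i (by omega)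
        rw [hu3, ih (i + 1) (by omega) (by omega), mul_zero, neg_zero]
    intro i
    rw [← hl i]
    exact hzero m i.val i.isLt (by omega)
  simpa using hli.fintype_card_le_finrank

end Cfsg.Agent.Lib.SLDeg48
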