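import Cfsg.Agent.Lib.SLDeg48.Hecke
import Cfsg.Agent.Lib.SLDeg48.Gram

/-!
The lower bound for representations with a fixed vector of the row subgroup.
-/

set_option autoImplicit false
set_option linter.unusedSectionVars false

namespace Cfsg.Agent.Lib.SLDeg48

open Matrix Module
open scoped Classical

variable {F : Type*} [Field F] [Fintype F] {n : ℕ}
variable {M : Type*} [AddCommGroup M] [Module ℂ M] [FiniteDimensional ℂ M]
variable (ρ : Representation ℂ (SL' n F) M)

/-- The Hecke idempotent of a simple root on the Borel-fixed vectors. -/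
noncomputable def Aop (hB : ∀ v ∈ Z ρ n, IsB ρ v) (i : ℕ) (h : i + 1 < n) :
    Module.End ℂ (Z ρ n) :=
  ((Fintype.card F : ℂ) + 1)⁻¹ • ((Fintype.card F : ℂ) • 1 -
    (Top ρ (show (⟨i, by omega⟩ : Fin n) ≠ ⟨i + 1, h⟩ from fun e => by simp at e)).restrict
      (fun v hv => ((hB v hv).map_Top ρ _ rfl).1))

variable {ρ} (hB : ∀ v ∈ Z ρ n, IsB ρ v) (hfix : ∀ z : M, (∀ g, ρ g z = z) → z = 0)
include hB

theorem q1_ne : (Fintype.card F : ℂ) + 1 ≠ 0 := by
  rw [← Nat.cast_one, ← Nat.cast_add, Nat.cast_ne_zero]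
  omega

theorem Top_eq (i : ℕ) (h : i + 1 < n) (v : Z ρ n) :
    Top ρ (show (⟨i, by omega⟩ : Fin n) ≠ ⟨i + 1, h⟩ from fun e => by simp at e) v.1 =
      (Fintype.card F : ℂ) • v.1 - ((Fintype.card F : ℂ) + 1) • (Aop ρ hB i h v).1 := by
  simp [Aop, smul_smul, mul_inv_cancel₀ (q1_ne hB)]

theorem Aop_idem (i : ℕ) (h : i + 1 < n) : Aop ρ hB i h * Aop ρ hB i h = Aop ρ hB i h := by
  apply LinearMap.ext
  intro v
  apply Subtype.ext
  set q : ℂ := (Fintype.card F : ℂ)
  have hne : q + 1 ≠ 0 := q1_ne hB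
  have hq := (hB v.1 v.2).quad ρ (show (⟨i, by omega⟩ : Fin n) ≠ ⟨i + 1, h⟩ from
    fun e => by simp at e) rfl
  show ((Aop ρ hB i h) ((Aop ρ hB i h) v)).1 = _
  simp only [Aop, LinearMap.smul_apply, LinearMap.sub_apply, Module.End.one_apply,
    Submodule.coe_smul, AddSubgroupClass.coe_sub, LinearMap.restrict_coe_apply, map_smul, map_sub,
    hq, ← show q = (Fintype.card F : ℂ) from rfl]
  match_scalars <;> field_simp <;> ring

theorem Aop_eq_zero_iff (i : ℕ) (h : i + 1 < n) (v : Z ρ n) :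
    Aop ρ hB i h v = 0 ↔
      ρ (wel (show (⟨i, by omega⟩ : Fin n) ≠ ⟨i + 1, h⟩ from fun e => by simp at e)) v.1 = v.1 := by
  constructor
  · intro h0
    refine wel_fix_of_Top ρ _ rfl (hB v.1 v.2) ?_
    rw [Top_eq hB i h v, h0]
    simp
  · intro hw
    have h1 := Top_eq hB i h v
    rw [Top_of_wel_fix ρ _ rfl (hB v.1 v.2) hw, eq_comm, sub_eq_self, smul_eq_zero] at h1
    exact Subtype.ext (h1.resolve_left (q1_ne hB))

theorem Aop_sandwich (i : ℕ) (h : i + 2 < n) :
    Aop ρ hB i (by omega) * Aop ρ hB (i + 1) h * Aop ρ hB i (by omega) -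
      Aop ρ hB (i + 1) h * Aop ρ hB i (by omega) * Aop ρ hB (i + 1) h =
      ((Fintype.card F : ℂ) / ((Fintype.card F : ℂ) + 1) ^ 2) •
        (Aop ρ hB i (by omega) - Aop ρ hB (i + 1) h) := by
  refine sandwich _ _ _ (q1_ne hB) (Aop_idem hB i _) (Aop_idem hB (i + 1) _) ?_
  set q : ℂ := (Fintype.card F : ℂ)
  have hT : ∀ (j : ℕ) (hj : j + 1 < n) (v : Z ρ n),
      ((q • (1 : Module.End ℂ (Z ρ n)) - (q + 1) • Aop ρ hB j hj) v).1 =
        Top ρ (show (⟨j, by omega⟩ : Fin n) ≠ ⟨j + 1, hj⟩ from fun e => by simp at e) v.1 := by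
    intro j hj v
    rw [Top_eq hB j hj v]
    simp [q]
  apply LinearMap.ext
  intro v
  apply Subtype.ext
  simp only [Module.End.mul_apply, hT]
  exact Top_braid ρ _ _ (fun e => by simp at e; omega) _

theorem Aop_commute (i j : ℕ) (hi : i + 1 < n) (hj : j + 1 < n) (hij : i + 2 ≤ j) (v : Z ρ n) :
    Aop ρ hB i hi (Aop ρ hB j hj v) = Aop ρ hB j hj (Aop ρ hB i hi v) := by
  apply Subtype.ext
  have hc := Top_commute ρ (show (⟨i, by omega⟩ : Fin n) ≠ ⟨i + 1, hi⟩ from fun e => by simp at e)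
    (show (⟨j, by omega⟩ : Fin n) ≠ ⟨j + 1, hj⟩ from fun e => by simp at e)
    (fun e => by simp at e; omega) (fun e => by simp at e; omega) (fun e => by simp at e; omega)
    (fun e => by simp at e; omega) v.1
  simp only [Aop, LinearMap.smul_apply, LinearMap.sub_apply, Module.End.one_apply,
    Submodule.coe_smul, AddSubgroupClass.coe_sub, LinearMap.restrict_coe_apply, map_smul, map_sub,
    hc]
  module

theorem finrank_range_Aop {ψ : AddChar F ℂ} (hψ : ψ.IsPrimitive) (hn : 3 ≤ n) (i : ℕ)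
    (h : i + 1 < n) (hd : dd ρ ψ ⟨i, by omega⟩ h ≤ 1) :
    finrank ℂ (LinearMap.range (Aop ρ hB i h)) ≤ 1 := by
  have hne : (⟨i, by omega⟩ : Fin n) ≠ ⟨i + 1, h⟩ := fun e => by simp at e
  refine le_trans (LinearMap.finrank_le_finrank_of_injective
    (f := ((rootVec ρ ψ hne).comp
      ((Z ρ n).subtype.comp (LinearMap.range (Aop ρ hB i h)).subtype)).codRestrict
      (E ρ ψ ⟨i, by omega⟩ (e1 ⟨i, by omega⟩ h))
      (fun v => rootVec_mem ρ ψ h hne v.1.2)) ?_) hd
  rw [← LinearMap.ker_eq_bot, LinearMap.ker_eq_bot']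
  intro v hv
  have h0 : rootVec ρ ψ hne v.1.1 = 0 := congrArg Subtype.val hv
  have hw := rootVec_ker ρ hψ hn hne rfl (hB v.1.1 v.1.2) h0
  obtain ⟨w, hw'⟩ := v.2
  apply Subtype.ext
  have h1 : Aop ρ hB i h v.1 = v.1 := by
    rw [← hw', ← Module.End.mul_apply, Aop_idem]
  show v.1 = 0
  rw [← h1]
  exact (Aop_eq_zero_iff hB i h v.1).2 hw

include hfix in
theorem Aop_ne_zero (hn : 3 ≤ n) (hne : Z ρ n ≠ ⊥) (i : ℕ) (h : i + 1 < n) :
    Aop ρ hB i h ≠ 0 := by
  intro h0
  have hx : (Fintype.card F : ℂ) / ((Fintype.card F : ℂ) + 1) ^ 2 ≠ 0 :=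
    div_ne_zero (Nat.cast_ne_zero.2 Fintype.card_ne_zero) (pow_ne_zero 2 (q1_ne hB))
  have hup : ∀ j (hj : j + 2 < n),
      (Aop ρ hB j (by omega) = 0 ↔ Aop ρ hB (j + 1) hj = 0) := by
    intro j hj
    have hs := Aop_sandwich hB j hj
    constructor <;> intro h' <;> rw [h'] at hs <;>
      simp only [mul_zero, zero_mul, sub_zero, zero_sub, smul_neg] at hs
    · exact (smul_eq_zero.1 (neg_eq_zero.1 hs.symm)).resolve_left hx
    · exact (smul_eq_zero.1 hs.symm).resolve_left hx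
  have hzero : ∀ j (hj : j + 1 < n), Aop ρ hB 0 (by omega) = 0 ↔ Aop ρ hB j hj = 0 := by
    intro j
    induction j with
    | zero => exact fun _ => Iff.rfl
    | succ j ih => exact fun hj => (ih (by omega)).trans (hup j hj)
  have hall : ∀ j (hj : j + 1 < n), Aop ρ hB j hj = 0 := fun j hj =>
    (hzero j hj).1 ((hzero i h).2 h0)
  refine hne ((Submodule.eq_bot_iff _).2 fun z hz => hfix z (fixed_of_all ρ (by omega) (hB z hz) ?_))
  rintro ⟨a, ha⟩ ⟨b, hbl⟩ hab hb
  simp only at hb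
  subst hb
  exact (Aop_eq_zero_iff hB a hbl ⟨z, hz⟩).1 (by rw [hall]; rfl)

end Cfsg.Agent.Lib.SLDeg48

namespace Cfsg.Agent.Lib.SLDeg48

open Matrix Module
open scoped Classical

variable {F : Type*} [Field F] [Fintype F] {n : ℕ}
variable {M : Type*} [AddCommGroup M] [Module ℂ M] [FiniteDimensional ℂ M]
variable (ρ : Representation ℂ (SL' n F) M) {ψ : AddChar F ℂ}

theorem dd_anti (hψ : ψ.IsPrimitive) (hn : 3 ≤ n) :
    ∀ (d k : ℕ) (h : k + d + 1 < n),
      dd ρ ψ ⟨k + d, by omega⟩ h ≤ dd ρ ψ ⟨k, by omega⟩ (show k + 1 < n by omega)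
  | 0, _, _ => le_rfl
  | d + 1, k, h => le_trans
      (dd_succ_le ρ hψ hn (k := ⟨k + d, by omega⟩) (k' := ⟨k + (d + 1), by omega⟩) rfl
        (by simp; omega) h)
      (dd_anti hψ hn d k (by omega))

theorem sum_dim (hψ : ψ.IsPrimitive) (hn : 3 ≤ n)
    (hd : ∀ k (h : k + 1 < n), dd ρ ψ ⟨k, by omega⟩ h = 1) : ∀ j, j + 1 ≤ n →
    finrank ℂ (Z ρ (n - 1 - j)) + j =
      finrank ℂ (Z ρ n) + ∑ i ∈ Finset.range j, Fintype.card F ^ (i + 1)
  | 0, _ => by rw [Nat.sub_zero, Z_last]; simp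
  | j + 1, hj => by
    have h1 := sum_dim hψ hn hd j (by omega)
    have h2 : n - 1 - j = n - 1 - (j + 1) + 1 := by omega
    have h3 := finrank_Z ρ hψ hn (k := ⟨n - 1 - (j + 1), by omega⟩)
      (show n - 1 - (j + 1) + 1 < n by omega)
    rw [hd _ _, mul_one] at h3
    simp only at h3
    rw [h2] at h1
    rw [Finset.sum_range_succ, show n - (n - 1 - (j + 1)) - 1 = j + 1 by omega] at *
    have := Nat.one_le_pow (j + 1) (Fintype.card F) Fintype.card_pos
    omega

theorem core (hψ : ψ.IsPrimitive) (hn : 3 ≤ n) (hfix : ∀ z : M, (∀ g, ρ g z = z) → z = 0)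
    (hd0 : dd ρ ψ ⟨0, by omega⟩ (show 0 + 1 < n by omega) ≤ 1) (hZ1 : Z ρ 1 ≠ ⊥) :
    ∑ i ∈ Finset.range (n - 1), Fintype.card F ^ (i + 1) ≤ finrank ℂ M ∨
      (n = 3 ∧ finrank ℂ M + 1 = Fintype.card F + Fintype.card F ^ 2) := by
  have hle1 : ∀ (k : Fin n) (h : k.val + 1 < n), dd ρ ψ k h ≤ 1 := by
    intro k h
    have h1 := dd_anti ρ hψ hn k.val 0 (by omega)
    simp only [Nat.zero_add] at h1
    exact h1.trans hd0
  have hne : Z ρ n ≠ ⊥ := by
    rw [← Z_last]
    exact Z_ne_bot ρ hψ hn hle1 hZ1 _ (by omega)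
  have hlast : dd ρ ψ ⟨n - 2, by omega⟩ (show n - 2 + 1 < n by omega) ≠ 0 := by
    intro h0
    set L : Fin n := ⟨n - 2, by omega⟩ with hL
    set L' : Fin n := ⟨n - 2 + 1, by omega⟩ with hL'
    have hLL : L ≠ L' := fun e => by simp [hL, hL'] at e
    have hZ : Z ρ L.val = Z ρ n := by
      have h2 := finrank_Z ρ hψ hn (k := L) (show n - 2 + 1 < n by omega)
      rw [h0, mul_zero, add_zero, show L.val + 1 = n - 1 by simp [hL]; omega, Z_last] at h2
      exact (Submodule.eq_of_le_of_finrank_eq (Z_anti ρ L.isLt.le) h2.symm).symm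
    have hmapw : ∀ {a b : Fin n} (h : a ≠ b), n - 2 ≤ a.val → n - 2 ≤ b.val → ∀ v ∈ Z ρ n,
        ρ (wel h) v ∈ Z ρ n := by
      intro a b h ha hb v hv
      rw [← hZ] at hv ⊢
      exact map_Z ρ (blk_wel h ha hb).nrm hv
    have hup : ∀ v ∈ Z ρ n, ∀ t, ρ (SpecialLinearGroup.transvection hLL t) v = v := fun v hv t =>
      (mem_Z ρ).1 hv _ (low_transvection hLL (Fin.lt_def.2 (by simp [hL, hL'])) t)
    have hlo : ∀ v ∈ Z ρ n, ∀ t, ρ (SpecialLinearGroup.transvection hLL.symm t) v = v := by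
      intro v hv t
      have h1 := wel_mul_transvection (F := F) hLL hLL hLL.symm (Equiv.swap_apply_left _ _)
        (Equiv.swap_apply_right _ _) (-t)
      rw [if_pos rfl, if_neg hLL.symm, mul_one, neg_one_mul, neg_neg] at h1
      have hv' : ρ (wel hLL.symm) v ∈ Z ρ n :=
        hmapw hLL.symm (by simp [hL']) (by simp [hL]) v hv
      have h2 := congrArg (fun g => ρ g (ρ (wel hLL.symm) v)) h1
      simp only [ρ_apply_mul, hup _ hv'] at h2
      rw [← ρ_apply_mul, wel_mul_wel_symm, map_one, Module.End.one_apply] at h2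
      exact h2.symm
    have hker : ∀ χ, MinDegree.Occurs (torRep ρ) (torId F n) χ → Ker χ L L' hLL := by
      rintro χ ⟨v, hv0, hv⟩ a
      have h1 := congrArg Subtype.val (hv (Additive.ofMul (hT L L' hLL a)))
      have h2 : ρ (diagE F n (hT L L' hLL a)) v.1 = v.1 := by
        have hd2 : diagE F n (hT L L' hLL a) =
            SpecialLinearGroup.diag2n hLL (a : F) a.ne_zero := by
          apply Subtype.ext
          rw [diagE_coe, SpecialLinearGroup.diag2n_coe]
          congr 1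
          funext x
          rw [hT_apply]
          by_cases hx : x = L
          · subst hx; simp [hLL]
          · by_cases hx' : x = L'
            · subst hx'; simp [hLL.symm]
            · simp [hx, hx']
        rw [hd2, AutPSL.diag2n_eq_prod_transvection hLL _ a.ne_zero]
        simp only [ρ_apply_mul, hup _ v.2, hlo _ v.2]
      change ρ (diagE F n (hT L L' hLL a)) v.1 = χ _ • v.1 at h1
      rw [h2] at h1
      exact smul_left_injective ℂ (fun e => hv0 (Subtype.ext e))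
        (h1.symm.trans (one_smul ℂ _).symm)
    have hB : ∀ v ∈ Z ρ n, IsB ρ v := fun v hv => ⟨hv, fun d =>
      tor_fix_of_ker ρ hn (fun χ hocc => ker_of_one ρ hLL hker hocc) d hv⟩
    refine Aop_ne_zero hB hfix hn hne (n - 2) (by omega) (LinearMap.ext fun v => ?_)
    refine (Aop_eq_zero_iff hB (n - 2) (by omega) v).2 ?_
    show ρ (wel hLL) v.1 = v.1
    simp only [wel, ρ_apply_mul, hup _ v.2, hlo _ v.2]
  have hd1 : ∀ k (h : k + 1 < n), dd ρ ψ ⟨k, by omega⟩ h = 1 := by
    intro k h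
    have h1 := dd_anti ρ hψ hn (n - 2 - k) k (by omega)
    simp only [show k + (n - 2 - k) = n - 2 by omega] at h1
    have := hle1 ⟨k, by omega⟩ h
    omega
  have hdim := sum_dim ρ hψ hn hd1 (n - 1) (by omega)
  rw [Nat.sub_self, Z_zero, finrank_top] at hdim
  set B := ∑ i ∈ Finset.range (n - 1), Fintype.card F ^ (i + 1)
  by_cases hBle : B ≤ finrank ℂ M
  · exact Or.inl hBle
  have hc : finrank ℂ (Z ρ n) + 2 ≤ n := by omega
  have hpos : 0 < finrank ℂ (Z ρ n) :=
    Module.finrank_pos_iff.2 (Submodule.nontrivial_iff_ne_bot.2 hne)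
  by_cases h3 : n = 3
  · subst h3
    have hB2 : B = Fintype.card F + Fintype.card F ^ 2 := by
      simp [B, Finset.sum_range_succ]
    exact Or.inr ⟨rfl, by omega⟩
  exfalso
  have hB : ∀ v ∈ Z ρ n, IsB ρ v := fun v hv => ⟨hv, fun d => tor_fix ρ hn hc d hv⟩
  set q : ℂ := (Fintype.card F : ℂ) with hq
  have hex : ∀ i, ∃ (a : Z ρ n) (b : Z ρ n →ₗ[ℂ] ℂ), ∀ h : i + 1 < n,
      b a = 1 ∧ ∀ v, Aop ρ hB i h v = b v • a := by
    intro i
    by_cases h : i + 1 < n
    · obtain ⟨a, b, h1, h2⟩ := exists_rank_one _ (Aop_idem hB i h) (Aop_ne_zero hB hfix hn hne i h)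
        (finrank_range_Aop hB hψ hn i h (hle1 _ h))
      exact ⟨a, b, fun _ => ⟨h1, h2⟩⟩
    · exact ⟨0, 0, fun h' => absurd h' h⟩
  choose a b hab using hex
  have hfar : ∀ i j, i + 2 ≤ j → ∀ (hj : j + 1 < n), b i (a j) = 0 ∧ b j (a i) = 0 := by
    intro i j hij hj
    obtain ⟨hi1, hi2⟩ := hab i (by omega)
    obtain ⟨hj1, hj2⟩ := hab j hj
    refine (commute_rank_one hi1 hj1 fun v => ?_).resolve_left fun heq => ?_
    · rw [← hj2 v, ← hi2 (Aop ρ hB j hj v), Aop_commute hB i j _ hj hij, hi2, hj2]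
    · have hA1 : Aop ρ hB i (by omega) (a i) = a i := by rw [hi2, hi1, one_smul]
      have hA2 : Aop ρ hB j hj (a i) = a i := by rw [hj2, ← heq, hi1, one_smul]
      have hne0 : (a i).1 ≠ 0 := fun e => by
        rw [show a i = 0 from Subtype.ext e, map_zero] at hi1
        exact zero_ne_one hi1
      have hT1 := Top_eq hB i (by omega) (a i)
      have hT2 := Top_eq hB j hj (a i)
      rw [hA1, ← sub_smul, show q - (q + 1) = -1 by ring, neg_one_smul] at hT1
      rw [hA2, ← sub_smul, show q - (q + 1) = -1 by ring, neg_one_smul] at hT2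
      exact far_sign ρ hψ hn (i := ⟨i, by omega⟩) (show i + 1 < n by omega) (hle1 _ _)
        _ (show i + 2 ≤ (⟨j, by omega⟩ : Fin n).val from hij) rfl _ (hB _ (a i).2) hne0 hT1 hT2
  have hadj : ∀ i (h : i + 2 < n), b i (a (i + 1)) * b (i + 1) (a i) = q / (q + 1) ^ 2 ∨
      ∀ v, b i v • a i = b (i + 1) v • a (i + 1) := by
    intro i h
    obtain ⟨hi1, hi2⟩ := hab i (by omega)
    obtain ⟨hj1, hj2⟩ := hab (i + 1) h
    refine or_iff_not_imp_left.2 fun hy v => ?_
    have hs := LinearMap.congr_fun (Aop_sandwich hB i h) v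
    simp only [LinearMap.sub_apply, Module.End.mul_apply, LinearMap.smul_apply, hi2, hj2,
      map_smul, smul_eq_mul] at hs
    have h2 : (b i (a (i + 1)) * b (i + 1) (a i) - q / (q + 1) ^ 2) •
        (b i v • a i - b (i + 1) v • a (i + 1)) = 0 := by
      rw [← hq] at hs
      linear_combination (norm := module) hs
    exact sub_eq_zero.1 ((smul_eq_zero.1 h2).resolve_left (sub_ne_zero.2 hy))
  have hx0 : q / (q + 1) ^ 2 ≠ 0 :=
    div_ne_zero (Nat.cast_ne_zero.2 Fintype.card_ne_zero) (pow_ne_zero 2 (q1_ne hB))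
  have hna : ∀ j, j + 1 < n → a j ≠ 0 := fun j hj e => by
    have := (hab j hj).1
    rw [e, map_zero] at this
    exact zero_ne_one this
  have hlink : ∀ i, i + 1 < n - 1 → b i (a (i + 1)) * b (i + 1) (a i) = q / (q + 1) ^ 2 := by
    intro i hi
    refine (hadj i (by omega)).resolve_right fun heq => ?_
    by_cases h2 : i + 3 < n
    · have hf := hfar i (i + 2) le_rfl (by omega)
      have hz : b (i + 1) (a (i + 2)) = 0 := by
        have := heq (a (i + 2))
        rw [hf.1, zero_smul, eq_comm, smul_eq_zero] at this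
        exact this.resolve_right (hna _ (by omega))
      rcases hadj (i + 1) (by omega) with h' | h'
      · rw [hz, zero_mul] at h'
        exact hx0 h'.symm
      · have := h' (a (i + 2))
        rw [hz, zero_smul, (hab (i + 2) (by omega)).1, one_smul] at this
        exact hna _ (by omega) this.symm
    · obtain ⟨k, rfl⟩ : ∃ k, i = k + 1 := ⟨i - 1, by omega⟩
      have hf := hfar k (k + 2) le_rfl (by omega)
      have hz : b (k + 1) (a k) = 0 := by
        have := heq (a k)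
        rw [hf.2, zero_smul, smul_eq_zero] at this
        exact this.resolve_right (hna _ (by omega))
      rcases hadj k (by omega) with h' | h'
      · rw [hz, mul_zero] at h'
        exact hx0 h'.symm
      · have := h' (a k)
        rw [hz, zero_smul, (hab k (by omega)).1, one_smul] at this
        exact hna _ (by omega) this
  have hlast' := chain_le_finrank (m := n - 1) a b (q := Fintype.card F)
    Fintype.card_pos
    (fun i hi => (hab i (by omega)).1)
    (fun i j hi hj hor => hor.elim (fun h => (hfar i j h (by omega)).1)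
      (fun h => (hfar j i h (by omega)).2))
    (fun i hi => hlink i (by omega))
  omega

end Cfsg.Agent.Lib.SLDeg48
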