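import Mathlib

/-!
Elementary matrices in `SL_n`: rank-one elements, monomial elements and the staircase
subgroups used for the fixed-space chain.
-/

set_option autoImplicit false
set_option linter.unusedSectionVars false

namespace Cfsg.Agent.Lib.SLDeg48

open Matrix

variable {F : Type*} [Field F] {n : ℕ}

/-- The special linear group. -/
abbrev SL' (n : ℕ) (F : Type*) [Field F] := SpecialLinearGroup (Fin n) F

theorem det_one_add_vecMulVec (u v : Fin n → F) (h : v ⬝ᵥ u = 0) :
    (1 + vecMulVec u v).det = 1 := by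
  rw [vecMulVec_eq Unit, det_one_add_replicateCol_mul_replicateRow, h, add_zero]

/-- `1 + u vᵀ`. -/
def rk1 (u v : Fin n → F) (h : v ⬝ᵥ u = 0) : SL' n F :=
  ⟨1 + vecMulVec u v, det_one_add_vecMulVec u v h⟩

theorem rk1_coe (u v : Fin n → F) (h : v ⬝ᵥ u = 0) :
    ((rk1 u v h : SL' n F) : Matrix (Fin n) (Fin n) F) = 1 + vecMulVec u v := rfl

theorem rk1_apply (u v : Fin n → F) (h : v ⬝ᵥ u = 0) (a b : Fin n) :
    (rk1 u v h : SL' n F).1 a b = (1 : Matrix (Fin n) (Fin n) F) a b + u a * v b := by
  simp [rk1_coe, vecMulVec_apply]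

/-- Conjugating a rank-one element. -/
theorem mul_rk1 (g : SL' n F) {u v u' v' : Fin n → F} (h : v ⬝ᵥ u = 0) (h' : v' ⬝ᵥ u' = 0)
    (hu : g.1 *ᵥ u = u') (hv : v' ᵥ* g.1 = v) : g * rk1 u v h = rk1 u' v' h' * g := by
  apply Subtype.ext
  show g.1 * (1 + vecMulVec u v) = (1 + vecMulVec u' v') * g.1
  rw [mul_add, add_mul, mul_one, one_mul, mul_vecMulVec, vecMulVec_mul, hu, hv]

theorem rk1_mul (u v v' : Fin n → F) (h : v ⬝ᵥ u = 0) (h' : v' ⬝ᵥ u = 0) :
    rk1 u v h * rk1 u v' h' = rk1 u (v + v') (by rw [add_dotProduct, h, h', add_zero]) := by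
  apply Subtype.ext
  show (1 + vecMulVec u v) * (1 + vecMulVec u v') = 1 + vecMulVec u (v + v')
  simp only [mul_add, add_mul, mul_one, one_mul, vecMulVec_mul_vecMulVec, h]
  ext a b
  simp only [Matrix.add_apply, vecMulVec_apply, Pi.add_apply, Pi.smul_apply, zero_smul,
    Pi.zero_apply, mul_zero, add_zero]
  ring

theorem rk1_zero (u : Fin n → F) : rk1 u 0 (zero_dotProduct u) = 1 := by
  apply Subtype.ext
  show (1 + vecMulVec u 0 : Matrix (Fin n) (Fin n) F) = 1
  simp

/-- Vectors supported after `k`. -/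
def tail (F : Type*) [Field F] (n k : ℕ) : Submodule F (Fin n → F) where
  carrier := {x | ∀ j : Fin n, j.val ≤ k → x j = 0}
  add_mem' hx hy j hj := by simp [hx j hj, hy j hj]
  zero_mem' j hj := rfl
  smul_mem' c x hx j hj := by simp [hx j hj]

theorem mem_tail {k : ℕ} {x : Fin n → F} :
    x ∈ tail F n k ↔ ∀ j : Fin n, j.val ≤ k → x j = 0 := Iff.rfl

theorem single_mem_tail {k : ℕ} {j : Fin n} (hj : k < j.val) (c : F) :
    (Pi.single j c : Fin n → F) ∈ tail F n k := by
  intro i hi
  rw [Pi.single_apply, if_neg]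
  rintro rfl
  omega

theorem tail_dot_single {k : Fin n} (y : tail F n k.val) :
    (y.1 : Fin n → F) ⬝ᵥ Pi.single k 1 = 0 := by
  rw [dotProduct_single, mul_one, y.2 k le_rfl]

/-- The row element `1 + e_k yᵀ`. -/
def row (k : Fin n) (y : tail F n k.val) : SL' n F :=
  rk1 (Pi.single k 1) y.1 (tail_dot_single y)

theorem row_apply (k : Fin n) (y : tail F n k.val) (a b : Fin n) :
    (row k y).1 a b = (1 : Matrix (Fin n) (Fin n) F) a b + (if a = k then y.1 b else 0) := by
  rw [row, rk1_apply, Pi.single_apply]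
  split_ifs <;> simp

theorem row_add (k : Fin n) (y z : tail F n k.val) : row k (y + z) = row k y * row k z :=
  (rk1_mul _ _ _ _ _).symm

theorem row_zero (k : Fin n) : row (F := F) k 0 = 1 := rk1_zero _

/-- The row subgroup as a homomorphism. -/
def rowHom (k : Fin n) : Multiplicative (tail F n k.val) →* SL' n F where
  toFun y := row k y.toAdd
  map_one' := row_zero k
  map_mul' y z := row_add k y.toAdd z.toAdd

theorem rowHom_apply (k : Fin n) (y : tail F n k.val) :
    rowHom k (Multiplicative.ofAdd y) = row k y := rfl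

/-- Upper unitriangular with trivial rows from `k` on. -/
def Low (k : ℕ) (g : SL' n F) : Prop :=
  ∀ a b : Fin n, (b ≤ a ∨ k ≤ a.val) → g.1 a b = (1 : Matrix (Fin n) (Fin n) F) a b

/-- Trivial in the rows and columns before `k`. -/
def Blk (k : ℕ) (g : SL' n F) : Prop :=
  ∀ a b : Fin n, (a.val < k ∨ b.val < k) → g.1 a b = (1 : Matrix (Fin n) (Fin n) F) a b

theorem low_one (k : ℕ) : Low k (1 : SL' n F) := fun _ _ _ => rfl

theorem Low.mono {k l : ℕ} (h : k ≤ l) {g : SL' n F} (hg : Low k g) : Low l g :=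
  fun a b hab => hg a b (hab.imp_right (le_trans h))

theorem Blk.mono {k l : ℕ} (h : l ≤ k) {g : SL' n F} (hg : Blk k g) : Blk l g :=
  fun a b hab => hg a b (hab.imp (fun x => by omega) (fun x => by omega))

theorem Blk.mul {k : ℕ} {g h : SL' n F} (hg : Blk k g) (hh : Blk k h) : Blk k (g * h) := by
  intro a b hab
  show (g.1 * h.1) a b = _
  rw [Matrix.mul_apply]
  rcases hab with ha | hb
  · rw [Finset.sum_eq_single a, hg a a (Or.inl ha), one_apply_eq, one_mul, hh a b (Or.inl ha)]
    · intro c _ hc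
      rw [hg a c (Or.inl ha), one_apply_ne hc.symm, zero_mul]
    · simp
  · rw [Finset.sum_eq_single b, hh b b (Or.inr hb), one_apply_eq, mul_one, hg a b (Or.inr hb)]
    · intro c _ hc
      rw [hh c b (Or.inr hb), one_apply_ne hc, mul_zero]
    · simp

theorem low_row (k : Fin n) (y : tail F n k.val) : Low (k.val + 1) (row k y) := by
  intro a b hab
  rw [row_apply]
  split_ifs with h
  · subst h
    rcases hab with hb | hb
    · rw [y.2 b hb, add_zero]
    · omega
  · rw [add_zero]

theorem blk_row (k : Fin n) (y : tail F n k.val) : Blk k.val (row k y) := by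
  intro a b hab
  rw [row_apply]
  split_ifs with h
  · subst h
    rcases hab with hb | hb
    · omega
    · rw [y.2 b hb.le, add_zero]
  · rw [add_zero]

/-- An element of `Low (k + 1)` is a row element times an element of `Low k`. -/
theorem Low.exists_row {k : Fin n} {g : SL' n F} (hg : Low (k.val + 1) g) :
    ∃ (y : tail F n k.val) (g' : SL' n F), Low k.val g' ∧ g = row k y * g' := by
  let y : tail F n k.val := ⟨fun b => if b.val ≤ k.val then 0 else g.1 k b,
    fun j hj => if_pos hj⟩
  refine ⟨y, row k (-y) * g, ?_, by rw [← mul_assoc, ← row_add, add_neg_cancel, row_zero, one_mul]⟩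
  intro a b hab
  show ((row k (-y)).1 * g.1) a b = _
  rw [Matrix.mul_apply]
  simp only [row_apply, add_mul, Finset.sum_add_distrib, Matrix.one_apply, ite_mul, one_mul,
    zero_mul, Finset.sum_ite_eq, Finset.mem_univ, if_true]
  by_cases ha : a = k
  · subst ha
    simp only [if_true, Submodule.coe_neg, Pi.neg_apply, neg_mul, Finset.sum_neg_distrib]
    have hs : ∑ c, y.1 c * g.1 c b = y.1 b := by
      rw [Finset.sum_eq_single b]
      · by_cases hb : b.val ≤ a.val
        · rw [show y.1 b = 0 from if_pos hb, zero_mul]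
        · rw [hg b b (Or.inl le_rfl), one_apply_eq, mul_one]
      · intro c _ hc
        by_cases hca : c.val ≤ a.val
        · rw [show y.1 c = 0 from if_pos hca, zero_mul]
        · rw [hg c b (Or.inr (by omega)), one_apply_ne hc, mul_zero]
      · simp
    rw [hs]
    by_cases hb : b.val ≤ a.val
    · rw [show y.1 b = 0 from if_pos hb, neg_zero, add_zero,
        hg a b (Or.inl (Fin.le_def.2 hb)), Matrix.one_apply]
    · rw [show y.1 b = g.1 a b from if_neg hb, add_neg_cancel, if_neg]
      rintro rfl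
      omega
  · simp only [ha, if_false, Finset.sum_const_zero, add_zero]
    rw [hg a b, Matrix.one_apply]
    rcases hab with h | h
    · exact Or.inl h
    · exact Or.inr (Nat.succ_le_of_lt (lt_of_le_of_ne h fun h2 => ha (Fin.ext h2.symm)))

/-- Elements normalising every `Low k`. -/
def Nrm (k : ℕ) (g : SL' n F) : Prop := ∀ h, Low k h → Low k (g⁻¹ * h * g)

theorem Blk.nrm {k : ℕ} {g : SL' n F} (hg : Blk k g) : Nrm k g := by
  intro h hh
  have hN : ∀ a b : Fin n, (b ≤ a ∨ k ≤ a.val) → (h.1 - 1) a b = 0 := fun a b hab => by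
    rw [Matrix.sub_apply, hh a b hab, sub_self]
  have hgN : g.1 * (h.1 - 1) = h.1 - 1 := by
    ext a b
    rw [Matrix.mul_apply, Finset.sum_eq_single a]
    · by_cases ha : a.val < k
      · rw [hg a a (Or.inl ha), one_apply_eq, one_mul]
      · rw [hN a b (Or.inr (by omega)), mul_zero]
    · intro c _ hc
      by_cases hck : c.val < k
      · rw [hg a c (Or.inr hck), one_apply_ne hc.symm, zero_mul]
      · rw [hN c b (Or.inr (by omega)), mul_zero]
    · simp
  have heq : (g⁻¹ * h * g).1 = 1 + (h.1 - 1) * g.1 := by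
    have h1 : g.1 * (g⁻¹ * h * g).1 = h.1 * g.1 := by
      have h0 : g * (g⁻¹ * h * g) = h * g := by group
      exact congrArg Subtype.val h0
    have h2 : g.1 * (1 + (h.1 - 1) * g.1) = h.1 * g.1 := by
      rw [mul_add, mul_one, ← mul_assoc, hgN, sub_mul, one_mul, add_sub_cancel]
    have h3 : (g⁻¹).1 * g.1 = 1 := congrArg Subtype.val (inv_mul_cancel g)
    calc (g⁻¹ * h * g).1 = (g⁻¹).1 * g.1 * (g⁻¹ * h * g).1 := by rw [h3, one_mul]
      _ = (g⁻¹).1 * g.1 * (1 + (h.1 - 1) * g.1) := by rw [mul_assoc, h1, ← h2, ← mul_assoc]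
      _ = _ := by rw [h3, one_mul]
  intro a b hab
  rw [heq, Matrix.add_apply, Matrix.mul_apply, Finset.sum_eq_zero, add_zero]
  intro c _
  by_cases hz : c ≤ a ∨ k ≤ a.val
  · rw [hN a c hz, zero_mul]
  · push Not at hz
    have hba : b ≤ a := hab.resolve_right (by omega)
    have hb : b.val < k := by omega
    rw [hg c b (Or.inr hb), one_apply_ne, mul_zero]
    intro hcb
    exact absurd (hcb ▸ hba) (not_le.2 hz.1)

theorem nrm_diag {k : ℕ} {g : SL' n F} {d : Fin n → F} (hd : g.1 = diagonal d) : Nrm k g := by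
  intro h hh a b hab
  have hd0 : d a ≠ 0 := by
    intro h0
    have h1 : (g.1 * (g⁻¹).1) a a = 1 := by
      rw [show g.1 * (g⁻¹).1 = 1 from congrArg Subtype.val (mul_inv_cancel g), one_apply_eq]
    rw [hd, diagonal_mul, h0, zero_mul] at h1
    exact zero_ne_one h1
  have h0 : g * (g⁻¹ * h * g) = h * g := by group
  have h1 : (g.1 * (g⁻¹ * h * g).1) a b = (h.1 * g.1) a b :=
    congrFun (congrFun (congrArg Subtype.val h0) a) b
  rw [hd, diagonal_mul, mul_diagonal, hh a b hab] at h1
  refine mul_left_cancel₀ hd0 (h1.trans ?_)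
  by_cases hab' : a = b
  · subst hab'; rw [mul_comm]
  · rw [one_apply_ne hab', zero_mul, mul_zero]

/-- The Weyl element with `e_i ↦ -e_j`, `e_j ↦ e_i`. -/
def wel {i j : Fin n} (h : i ≠ j) : SL' n F :=
  SpecialLinearGroup.transvection h 1 * SpecialLinearGroup.transvection h.symm (-1) *
    SpecialLinearGroup.transvection h 1

theorem wel_coe {i j : Fin n} (h : i ≠ j) :
    (wel (F := F) h).1 = 1 - single i i 1 - single j j 1 + single i j 1 - single j i 1 := by
  show (SpecialLinearGroup.transvection h 1).1 * (SpecialLinearGroup.transvection h.symm (-1)).1 *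
    (SpecialLinearGroup.transvection h 1).1 = _
  simp only [SpecialLinearGroup.transvection_coe, mul_add,
    add_mul, one_mul, mul_one, single_mul_single_same, single_mul_single_of_ne _ _ _ _ h,
    single_mul_single_of_ne _ _ _ _ h.symm, add_zero, zero_add, zero_mul, mul_neg, neg_mul]
  ext a b
  simp only [Matrix.add_apply, Matrix.sub_apply, single_apply, Matrix.one_apply]
  grind

theorem wel_apply {i j : Fin n} (h : i ≠ j) (a b : Fin n) :
    (wel (F := F) h).1 a b =
      if a = Equiv.swap i j b then (if b = i then -1 else 1) else 0 := by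
  rw [wel_coe]
  simp only [Matrix.add_apply, Matrix.sub_apply, single_apply, Matrix.one_apply,
    Equiv.swap_apply_def]
  grind

theorem wel_mulVec_single {i j : Fin n} (h : i ≠ j) (b : Fin n) :
    (wel (F := F) h).1 *ᵥ Pi.single b 1 =
      (if b = i then (-1 : F) else 1) • Pi.single (Equiv.swap i j b) 1 := by
  ext a
  rw [mulVec_single_one, Matrix.col_apply, wel_apply, Pi.smul_apply, Pi.single_apply]
  split_ifs <;> simp

theorem wel_mul_wel_symm {i j : Fin n} (h : i ≠ j) : wel (F := F) h * wel h.symm = 1 := by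
  apply Subtype.ext
  show (wel (F := F) h).1 * (wel h.symm).1 = 1
  ext a b
  rw [Matrix.mul_apply, Finset.sum_eq_single (Equiv.swap j i b)]
  · simp only [wel_apply, Matrix.one_apply, Equiv.swap_apply_def]
    grind
  · intro c _ hc
    rw [wel_apply h.symm c b, if_neg hc, mul_zero]
  · simp

theorem inv_wel {i j : Fin n} (h : i ≠ j) : (wel (F := F) h)⁻¹ = wel h.symm :=
  inv_eq_of_mul_eq_one_right (wel_mul_wel_symm h)

theorem blk_wel {i j : Fin n} (h : i ≠ j) {k : ℕ} (hi : k ≤ i.val) (hj : k ≤ j.val) :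
    Blk k (wel (F := F) h) := by
  intro a b hab
  rw [wel_apply, Matrix.one_apply, Equiv.swap_apply_def]
  grind

theorem blk_transvection {i j : Fin n} (h : i ≠ j) {k : ℕ} (hi : k ≤ i.val) (hj : k ≤ j.val)
    (c : F) : Blk k (SpecialLinearGroup.transvection h c) := by
  intro a b hab
  rw [SpecialLinearGroup.transvection_coe, Matrix.add_apply, single_apply, if_neg, add_zero]
  grind

/-- The row element with a single entry is a transvection. -/
theorem row_single {k j : Fin n} (hkj : k.val < j.val) (c : F) :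
    row k ⟨Pi.single j c, single_mem_tail hkj c⟩ =
      SpecialLinearGroup.transvection (show k ≠ j from fun h => by omega) c := by
  apply Subtype.ext
  ext a b
  rw [row_apply, SpecialLinearGroup.transvection_coe, Matrix.add_apply, single_apply]
  simp only [Pi.single_apply]
  grind

end Cfsg.Agent.Lib.SLDeg48
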