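import Cfsg.Agent.Lib.SLDeg48.Torus

/-!
The Hecke operators on the vectors fixed by the Borel subgroup: quadratic, commutation and braid
relations, fixed spaces and rank.
-/

set_option autoImplicit false
set_option linter.unusedSectionVars false

namespace Cfsg.Agent.Lib.SLDeg48

open Matrix Module
open scoped Classical commutatorElement

variable {F : Type*} [Field F] {n : ℕ}

theorem ext_mulVec {g h : SL' n F}
    (H : ∀ b, g.1 *ᵥ Pi.single b 1 = h.1 *ᵥ Pi.single b 1) : g = h := by
  apply Subtype.ext
  ext a b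
  have := congrFun (H b) a
  rwa [mulVec_single_one, mulVec_single_one] at this

theorem transvection_commute {a b c d : Fin n} (hab : a ≠ b) (hcd : c ≠ d) (h1 : b ≠ c)
    (h2 : d ≠ a) (s t : F) :
    Commute (SpecialLinearGroup.transvection hab s) (SpecialLinearGroup.transvection hcd t) := by
  apply Subtype.ext
  show (SpecialLinearGroup.transvection hab s).1 * (SpecialLinearGroup.transvection hcd t).1 =
    (SpecialLinearGroup.transvection hcd t).1 * (SpecialLinearGroup.transvection hab s).1
  simp only [SpecialLinearGroup.transvection_coe, mul_add, add_mul, one_mul, mul_one,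
    single_mul_single_of_ne _ _ _ _ h1, single_mul_single_of_ne _ _ _ _ h2, add_zero]
  abel

theorem wel_commute {a b c d : Fin n} (hab : a ≠ b) (hcd : c ≠ d) (hac : a ≠ c) (had : a ≠ d)
    (hbc : b ≠ c) (hbd : b ≠ d) (t : F) :
    Commute (wel hab) (SpecialLinearGroup.transvection hcd t) :=
  ((transvection_commute hab hcd hbc had.symm 1 t).mul_left
    (transvection_commute hab.symm hcd hac hbd.symm (-1) t)).mul_left
    (transvection_commute hab hcd hbc had.symm 1 t)

theorem wel_wel_commute {a b c d : Fin n} (hab : a ≠ b) (hcd : c ≠ d) (hac : a ≠ c) (had : a ≠ d)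
    (hbc : b ≠ c) (hbd : b ≠ d) : Commute (wel (F := F) hab) (wel hcd) :=
  ((wel_commute hab hcd hac had hbc hbd 1).mul_right
    (wel_commute hab hcd.symm had hac hbd hbc (-1))).mul_right
    (wel_commute hab hcd hac had hbc hbd 1)

/-- Moving a Weyl element through a transvection. -/
theorem wel_mul_transvection {i j : Fin n} (hij : i ≠ j) {a b a' b' : Fin n} (hab : a ≠ b)
    (hab' : a' ≠ b') (ha : Equiv.swap i j a = a') (hb : Equiv.swap i j b = b') (t : F) :
    wel hij * SpecialLinearGroup.transvection hab t =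
      SpecialLinearGroup.transvection hab'
        ((if a = i then (-1 : F) else 1) * (if b = i then (-1 : F) else 1) * t) * wel hij := by
  have h' : (Pi.single b' ((if b = i then (-1 : F) else 1) * t) : Fin n → F) ⬝ᵥ
      ((if a = i then (-1 : F) else 1) • Pi.single a' 1) = 0 := by
    rw [dotProduct_smul, single_dot_single hab', smul_zero]
  have hR : SpecialLinearGroup.transvection hab'
      ((if a = i then (-1 : F) else 1) * (if b = i then (-1 : F) else 1) * t) =
      rk1 ((if a = i then (-1 : F) else 1) • Pi.single a' 1)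
        (Pi.single b' ((if b = i then (-1 : F) else 1) * t)) h' := by
    apply Subtype.ext
    ext x y
    rw [rk1_apply, SpecialLinearGroup.transvection_coe, Matrix.add_apply, single_apply]
    simp only [Pi.smul_apply, Pi.single_apply, smul_eq_mul]
    grind
  rw [hR, transvection_eq_rk1]
  refine mul_rk1 _ _ _ ?_ ?_
  · rw [wel_mulVec_single, ha]
  · ext x
    rw [single_vecMul, Pi.smul_apply, Matrix.row_apply, wel_apply, smul_eq_mul, Pi.single_apply]
    by_cases hx : x = b
    · subst hx
      rw [if_pos hb.symm, if_pos rfl]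
      split_ifs <;> ring
    · rw [if_neg hx, if_neg (show ¬ b' = Equiv.swap i j x from fun e =>
      hx ((Equiv.swap i j).injective (e.symm.trans hb.symm))), mul_zero]

theorem wel_braid {a b c : Fin n} (hab : a ≠ b) (hbc : b ≠ c) (hac : a ≠ c) :
    wel (F := F) hab * wel hbc * wel hab = wel hbc * wel hab * wel hbc := by
  apply ext_mulVec
  intro x
  show ((wel (F := F) hab).1 * (wel (F := F) hbc).1 * (wel (F := F) hab).1) *ᵥ _ =
    ((wel (F := F) hbc).1 * (wel (F := F) hab).1 * (wel (F := F) hbc).1) *ᵥ _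
  simp only [← mulVec_mulVec, wel_mulVec_single, mulVec_smul, smul_smul, Equiv.swap_apply_def]
  by_cases hxa : x = a
  · subst hxa; simp [hab, hac, hab.symm, hbc, hac.symm, hbc.symm]
  by_cases hxb : x = b
  · subst hxb; simp [hab, hac, hab.symm, hbc, hac.symm, hbc.symm]
  by_cases hxc : x = c
  · subst hxc; simp [hab, hac, hab.symm, hbc, hac.symm, hbc.symm]
  simp [hxa, hxb, hxc]

variable [Fintype F] {M : Type*} [AddCommGroup M] [Module ℂ M]
variable (ρ : Representation ℂ (SL' n F) M)

/-- `z` is fixed by the torus and by `U_B`. -/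
def IsB (z : M) : Prop := z ∈ Z ρ n ∧ ∀ d : tor F n, ρ (diagE F n d) z = z

theorem IsB.upper {z : M} (hz : IsB ρ z) {a b : Fin n} (h : a ≠ b) (hlt : a.val < b.val) (t : F) :
    ρ (SpecialLinearGroup.transvection h t) z = z :=
  (mem_Z ρ).1 hz.1 _ (low_transvection h (Fin.lt_def.2 hlt) t)

theorem IsB.map_Top {i j : Fin n} (h : i ≠ j) (hij : j.val = i.val + 1) {z : M} (hz : IsB ρ z) :
    IsB ρ (Top ρ h z) :=
  ⟨Top_mem ρ h hij hz.1, fun d => by rw [diag_Top, hz.2]⟩

theorem IsB.quad {i j : Fin n} (h : i ≠ j) (hij : j.val = i.val + 1) {z : M} (hz : IsB ρ z) :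
    Top ρ h (SLDeg48.Top ρ h z) =
      (Fintype.card F : ℂ) • z + ((Fintype.card F : ℂ) - 1) • SLDeg48.Top ρ h z := by
  rw [Top_Top ρ h hij hz.1]
  simp only [hz.2, Finset.sum_const, Finset.card_univ, Fintype.card_units]
  rw [← Nat.cast_smul_eq_nsmul ℂ, Nat.cast_sub Fintype.card_pos, Nat.cast_one]

theorem wel_sum_fixed {i j : Fin n} (h : i ≠ j) (hij : j.val = i.val + 1) {z : M} (hz : IsB ρ z) :
    ρ (wel h) (z + Top ρ h z) = z + Top ρ h z := by
  have h0 : ρ (wel h * wel h) z = z := by rw [wel_sq, hz.2]
  have hterm : ∀ x : F, x ≠ 0 → ρ (wel h * (SpecialLinearGroup.transvection h x * wel h)) z =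
      ρ (SpecialLinearGroup.transvection h (-x⁻¹) * wel h) z := by
    intro x hx
    rw [← mul_assoc, wel_transvection_wel h hx, ρ_apply_mul, hz.upper ρ h (by omega),
      ρ_apply_mul, hz.2]
  rw [map_add, Top_apply, map_sum,
    ← Finset.add_sum_erase _ _ (Finset.mem_univ (0 : F)),
    ← Finset.add_sum_erase _ (fun t => ρ (SpecialLinearGroup.transvection h t * wel h) z)
      (Finset.mem_univ (0 : F))]
  simp only [SpecialLinearGroup.transvection_coeff_zero, one_mul, ← ρ_apply_mul, h0]
  rw [Finset.sum_congr rfl fun x hx => hterm x (Finset.mem_erase.1 hx).1]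
  have he : ∑ x ∈ Finset.univ.erase (0 : F),
      ρ (SpecialLinearGroup.transvection h (-x⁻¹) * wel h) z =
      ∑ x ∈ Finset.univ.erase (0 : F), ρ (SpecialLinearGroup.transvection h x * wel h) z := by
    refine Finset.sum_bij' (fun x _ => -x⁻¹) (fun x _ => -x⁻¹) ?_ ?_ ?_ ?_ ?_
    · intro x hx; simpa using (Finset.mem_erase.1 hx).1
    · intro x hx; simpa using (Finset.mem_erase.1 hx).1
    · intro x _; simp [inv_neg]
    · intro x _; simp [inv_neg]
    · intro x _; rfl
  rw [he]
  abel

theorem wel_fix_of_Top {i j : Fin n} (h : i ≠ j) (hij : j.val = i.val + 1) {z : M} (hz : IsB ρ z)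
    (hT : Top ρ h z = (Fintype.card F : ℂ) • z) : ρ (wel h) z = z := by
  have h1 := wel_sum_fixed ρ h hij hz
  rw [hT, ← one_smul ℂ z, smul_smul, mul_one, ← add_smul, map_smul] at h1
  rw [← one_smul ℂ z]
  refine smul_right_injective M (r := (1 : ℂ) + Fintype.card F) ?_ (by simpa using h1)
  rw [← Nat.cast_one, ← Nat.cast_add]
  exact Nat.cast_ne_zero.2 (by omega)

theorem Top_of_wel_fix {i j : Fin n} (h : i ≠ j) (hij : j.val = i.val + 1) {z : M} (hz : IsB ρ z)
    (hw : ρ (wel h) z = z) : Top ρ h z = (Fintype.card F : ℂ) • z := by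
  rw [Top_apply]
  simp only [ρ_apply_mul, hw, hz.upper ρ h (show i.val < j.val by omega), Finset.sum_const,
    Finset.card_univ, Nat.cast_smul_eq_nsmul ℂ]

variable (ψ : AddChar F ℂ)

/-- The root eigenvector attached to a `B`-fixed vector. -/
noncomputable def rootVec {i j : Fin n} (h : i ≠ j) : M →ₗ[ℂ] M :=
  ∑ t : F, ψ (-t) • ((ρ (SpecialLinearGroup.transvection h t)).comp (ρ (wel h)))

theorem rootVec_apply {i j : Fin n} (h : i ≠ j) (z : M) :
    rootVec ρ ψ h z = ∑ t : F, ψ (-t) • ρ (SpecialLinearGroup.transvection h t * wel h) z := by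
  simp [rootVec, LinearMap.sum_apply, ρ_apply_mul]

theorem rootVec_mem {i : Fin n} (hi : i.val + 1 < n) (h : i ≠ ⟨i.val + 1, hi⟩) {z : M}
    (hz : z ∈ Z ρ n) : rootVec ρ ψ h z ∈ E ρ ψ i (e1 i hi) := by
  set j : Fin n := ⟨i.val + 1, hi⟩ with hj
  have hlt : i.val < j.val := by simp [hj]
  rw [mem_E, rootVec_apply]
  constructor
  · refine Submodule.sum_mem _ fun t _ => Submodule.smul_mem _ _ ?_
    rw [ρ_apply_mul]
    exact map_Z ρ (blk_transvection h le_rfl hlt.le t).nrm
      (map_Z ρ (blk_wel h le_rfl hlt.le).nrm (Z_anti ρ i.isLt.le hz))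
  intro y
  set r : tail F n i.val := y - ⟨Pi.single j (y.1 j), single_mem_tail hlt _⟩ with hr
  have hy : y = ⟨Pi.single j (y.1 j), single_mem_tail hlt _⟩ + r := by rw [hr]; abel
  have hrow : row i y = SpecialLinearGroup.transvection h (y.1 j) * row i r := by
    conv_lhs => rw [hy, row_add, row_single hlt]
  have hfix : ρ (row i r) (ρ (wel h) z) = ρ (wel h) z := by
    have hlow : Low n ((wel h)⁻¹ * row i r * wel h) := by
      refine low_wel_conj h rfl ((low_row i r).mono i.isLt) ?_
      rw [row_apply, if_pos rfl, Matrix.one_apply_ne h]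
      simp [hr]
    rw [← ρ_apply_mul, show row i r * wel h = wel h * ((wel h)⁻¹ * row i r * wel h) by group,
      ρ_apply_mul, (mem_Z ρ).1 hz _ hlow]
  rw [map_sum, Finset.smul_sum]
  refine Fintype.sum_equiv (Equiv.addLeft (y.1 j)) _ _ fun t => ?_
  have hcomm : row i r * SpecialLinearGroup.transvection h t =
      SpecialLinearGroup.transvection h t * row i r := by
    rw [← row_single hlt t, ← row_add, ← row_add, add_comm]
  have hy1 : y.1 ⬝ᵥ (e1 i hi).1 = y.1 j := by simp [e1, hj, dotProduct_single]
  rw [map_smul, hrow, ← ρ_apply_mul, mul_assoc, ← mul_assoc (row i r), hcomm,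
    mul_assoc (SpecialLinearGroup.transvection h t), ← mul_assoc, ← SpecialLinearGroup.transvection_add,
    ρ_apply_mul, ρ_apply_mul ρ (row i r), hfix, hy1, Equiv.coe_addLeft, smul_smul, ρ_apply_mul,
    ← AddChar.map_add_eq_mul]
  congr 2
  ring

theorem rootVec_ker {ψ} (hψ : ψ.IsPrimitive) (hn : 3 ≤ n) {i j : Fin n} (h : i ≠ j)
    (hij : j.val = i.val + 1) {z : M} (hz : IsB ρ z) (h0 : rootVec ρ ψ h z = 0) :
    ρ (wel h) z = z := by
  obtain ⟨l, -, hl⟩ := Finset.exists_mem_notMem_of_card_lt_card
    (s := ({i, j} : Finset (Fin n))) (t := Finset.univ)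
    (lt_of_le_of_lt Finset.card_le_two (by simp; omega))
  simp at hl
  set q : ℂ := (Fintype.card F : ℂ)
  have hall : ∀ c : F, c ≠ 0 →
      ∑ t : F, ψ (-(c * t)) • ρ (SpecialLinearGroup.transvection h t * wel h) z = 0 := by
    intro c hc
    set d := hT i l (Ne.symm hl.1) (Units.mk0 c⁻¹ (inv_ne_zero hc))
    have h1 := congrArg (ρ (diagE F n d)) h0
    rw [map_zero, rootVec_apply, map_sum] at h1
    rw [← h1]
    refine (Fintype.sum_equiv (Equiv.mulLeft₀ c⁻¹ (inv_ne_zero hc)) _ _ fun t => ?_).symm
    have hdi : d.1 i = Units.mk0 c⁻¹ (inv_ne_zero hc) := by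
      simp [d, hT_apply, Ne.symm hl.1]
    have hdj : d.1 j = 1 := by simp [d, hT_apply, Ne.symm hl.2, h.symm]
    have hkey : diagE F n d * (SpecialLinearGroup.transvection h t * wel h) =
        SpecialLinearGroup.transvection h (c⁻¹ * t) * wel h *
          diagE F n (permT (Equiv.swap i j) d) := by
      rw [← mul_assoc, diag_mul_transvection, mul_assoc, wel_diag, ← mul_assoc, hdi, hdj]
      simp
    rw [map_smul, ← ρ_apply_mul, hkey, ρ_apply_mul, hz.2, Equiv.mulLeft₀_apply]
    simp [mul_inv_cancel_left₀ hc]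
  have hsum : ∑ c : F, ∑ t : F, ψ (-(c * t)) • ρ (SpecialLinearGroup.transvection h t * wel h) z =
      q • ρ (wel h) z := by
    rw [Finset.sum_comm]
    simp only [← Finset.sum_smul]
    rw [Finset.sum_eq_single (0 : F)]
    · simp [q]
    · intro t _ ht
      rw [show ∑ c : F, ψ (-(c * t)) = ∑ c : F, ψ (c * -t) by simp [mul_neg],
        AddChar.sum_mulShift _ hψ, if_neg (neg_ne_zero.2 ht)]
      simp
    · simp
  rw [← Finset.add_sum_erase _ _ (Finset.mem_univ (0 : F)),
    Finset.sum_eq_zero fun c hc => hall c (Finset.mem_erase.1 hc).1, add_zero] at hsum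
  simp only [zero_mul, neg_zero, AddChar.map_zero_eq_one, one_smul] at hsum
  rw [← Top_apply] at hsum
  have h2 := wel_sum_fixed ρ h hij hz
  rw [hsum, map_add, map_smul, ← ρ_apply_mul, wel_sq, hz.2] at h2
  have h3 : (q - 1) • ρ (wel h) z = (q - 1) • z := by
    rw [sub_smul, sub_smul, one_smul, one_smul, sub_eq_sub_iff_add_eq_add]
    rw [add_comm _ z, ← h2, add_comm]
  refine smul_right_injective M (r := q - 1) ?_ h3
  rw [sub_ne_zero, Ne, show q = (Fintype.card F : ℂ) from rfl, Nat.cast_eq_one]
  exact Fintype.one_lt_card.ne'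

theorem wel_fix_lower {i j : Fin n} (h : i ≠ j) (hij : j.val = i.val + 1) {z : M} (hz : IsB ρ z)
    (hw : ρ (wel h) z = z) (t : F) : ρ (SpecialLinearGroup.transvection h.symm t) z = z := by
  have h1 := wel_mul_transvection (F := F) h h h.symm (Equiv.swap_apply_left _ _)
    (Equiv.swap_apply_right _ _) (-t)
  rw [if_pos rfl, if_neg h.symm, mul_one, neg_one_mul, neg_neg] at h1
  have h2 := congrArg (fun g => ρ g z) h1
  simp only [ρ_apply_mul, hz.upper ρ h (show i.val < j.val by omega), hw] at h2
  exact h2.symm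

theorem fixed_of_all {z : M} (hn : 2 ≤ n) (hz : IsB ρ z)
    (hw : ∀ (i j : Fin n) (h : i ≠ j), j.val = i.val + 1 → ρ (wel h) z = z) (g : SL' n F) :
    ρ g z = z := by
  have hlow : ∀ (m : ℕ) (i j : Fin n) (h : i ≠ j), i.val = j.val + (m + 1) → ∀ t,
      ρ (SpecialLinearGroup.transvection h t) z = z := by
    intro m
    induction m with
    | zero => intro i j h hm t; exact wel_fix_lower ρ h.symm hm hz (hw j i h.symm hm) t
    | succ m ih =>
      intro i j h hm t
      set y : Fin n := ⟨j.val + (m + 1), by omega⟩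
      have hiy : i ≠ y := fun e => by simp [y, Fin.ext_iff] at e; omega
      have hyj : y ≠ j := fun e => by simp [y, Fin.ext_iff] at e
      rw [← mul_one t, ← AutPSL.commutator_transvection hiy hyj h t 1, commutatorElement_def,
        SpecialLinearGroup.transvection_inv, SpecialLinearGroup.transvection_inv]
      simp only [ρ_apply_mul]
      rw [ih y j hyj (by simp [y]) _, wel_fix_lower ρ hiy.symm (by simp [y]; omega) hz
        (hw y i hiy.symm (by simp [y]; omega)) _, ih y j hyj (by simp [y]) _,
        wel_fix_lower ρ hiy.symm (by simp [y]; omega) hz (hw y i hiy.symm (by simp [y]; omega)) _]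
  have : Nontrivial (Fin n) := Fin.nontrivial_iff_two_le.2 hn
  induction g using AutPSL.transvection_induction with
  | htr i j h c =>
    rcases lt_trichotomy i.val j.val with hlt | heq | hgt
    · exact hz.upper ρ h hlt c
    · exact absurd (Fin.ext heq) h
    · exact hlow (i.val - j.val - 1) i j h (by omega) c
  | hmul A B hA hB => rw [ρ_apply_mul, hB, hA]

theorem Top_commute {a b c d : Fin n} (hab : a ≠ b) (hcd : c ≠ d) (hac : a ≠ c) (had : a ≠ d)
    (hbc : b ≠ c) (hbd : b ≠ d) (z : M) :
    Top ρ hab (Top ρ hcd z) = Top ρ hcd (Top ρ hab z) := by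
  simp only [Top_apply, map_sum, ← ρ_apply_mul]
  rw [Finset.sum_comm]
  refine Finset.sum_congr rfl fun y _ => Finset.sum_congr rfl fun x _ => ?_
  congr 2
  exact ((transvection_commute hab hcd hbc had.symm _ _).mul_left
    (wel_commute hab hcd hac had hbc hbd _)).mul_right
    ((wel_commute hcd hab hac.symm hbc.symm had.symm hbd.symm _).symm.mul_left
      (wel_wel_commute hab hcd hac had hbc hbd))

theorem Top_braid {a b c : Fin n} (hab : a ≠ b) (hbc : b ≠ c) (hac : a ≠ c) (z : M) :
    Top ρ hab (Top ρ hbc (Top ρ hab z)) = Top ρ hbc (Top ρ hab (Top ρ hbc z)) := by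
  have hL : ∀ x y t : F, SpecialLinearGroup.transvection hab x * wel hab *
      (SpecialLinearGroup.transvection hbc y * wel hbc *
        (SpecialLinearGroup.transvection hab t * wel hab)) =
      SpecialLinearGroup.transvection hbc t * SpecialLinearGroup.transvection hac (y + x * t) *
        SpecialLinearGroup.transvection hab x * (wel hab * wel hbc * wel hab) := by
    intro x y t
    have m1 := wel_mul_transvection (F := F) hab hbc hac (Equiv.swap_apply_right _ _)
      (Equiv.swap_apply_of_ne_of_ne hac.symm hbc.symm) y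
    rw [if_neg hab.symm, if_neg hac.symm, mul_one, one_mul] at m1
    have m2 := wel_mul_transvection (F := F) hbc hab hac
      (Equiv.swap_apply_of_ne_of_ne hab hac) (Equiv.swap_apply_left _ _) t
    rw [if_neg hab, if_pos rfl, one_mul, neg_one_mul] at m2
    have m3 := wel_mul_transvection (F := F) hab hac hbc (Equiv.swap_apply_left _ _)
      (Equiv.swap_apply_of_ne_of_ne hac.symm hbc.symm) (-t)
    rw [if_pos rfl, if_neg hac.symm, mul_one, neg_one_mul, neg_neg] at m3
    have hcomm : SpecialLinearGroup.transvection hab x * SpecialLinearGroup.transvection hbc t =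
        SpecialLinearGroup.transvection hbc t * SpecialLinearGroup.transvection hac (x * t) *
          SpecialLinearGroup.transvection hab x := by
      have := AutPSL.commutator_transvection hab hbc hac x t
      rw [commutatorElement_def] at this
      rw [(transvection_commute hbc hac hac.symm hbc.symm _ _).eq, ← this]
      group
    calc _ = SpecialLinearGroup.transvection hab x *
          (wel hab * SpecialLinearGroup.transvection hbc y) * (wel hbc *
            SpecialLinearGroup.transvection hab t) * wel hab := by group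
      _ = SpecialLinearGroup.transvection hab x * SpecialLinearGroup.transvection hac y *
          (wel hab * SpecialLinearGroup.transvection hac (-t)) * wel hbc * wel hab := by
          rw [m1, m2]; group
      _ = SpecialLinearGroup.transvection hab x * (SpecialLinearGroup.transvection hac y *
          SpecialLinearGroup.transvection hbc t) * (wel hab * wel hbc * wel hab) := by
          rw [m3]; group
      _ = _ := by
          congr 1
          rw [(transvection_commute hac hbc hbc.symm hac.symm y t).eq, ← mul_assoc, hcomm,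
            mul_assoc, (transvection_commute hab hac hab.symm hac.symm x y).eq, ← mul_assoc,
            mul_assoc (SpecialLinearGroup.transvection hbc t),
            ← SpecialLinearGroup.transvection_add, add_comm (x * t)]
  have hR : ∀ x y t : F, SpecialLinearGroup.transvection hbc x * wel hbc *
      (SpecialLinearGroup.transvection hab y * wel hab *
        (SpecialLinearGroup.transvection hbc t * wel hbc)) =
      SpecialLinearGroup.transvection hbc x * SpecialLinearGroup.transvection hac (-y) *
        SpecialLinearGroup.transvection hab t * (wel hab * wel hbc * wel hab) := by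
    intro x y t
    have m1 := wel_mul_transvection (F := F) hbc hab hac
      (Equiv.swap_apply_of_ne_of_ne hab hac) (Equiv.swap_apply_left _ _) y
    rw [if_neg hab, if_pos rfl, one_mul, neg_one_mul] at m1
    have m2 := wel_mul_transvection (F := F) hab hbc hac (Equiv.swap_apply_right _ _)
      (Equiv.swap_apply_of_ne_of_ne hac.symm hbc.symm) t
    rw [if_neg hab.symm, if_neg hac.symm, mul_one, one_mul] at m2
    have m3 := wel_mul_transvection (F := F) hbc hac hab
      (Equiv.swap_apply_of_ne_of_ne hab hac) (Equiv.swap_apply_right _ _) t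
    rw [if_neg hab, if_neg hbc.symm, one_mul, one_mul] at m3
    calc _ = SpecialLinearGroup.transvection hbc x *
          (wel hbc * SpecialLinearGroup.transvection hab y) * (wel hab *
            SpecialLinearGroup.transvection hbc t) * wel hbc := by group
      _ = SpecialLinearGroup.transvection hbc x * SpecialLinearGroup.transvection hac (-y) *
          (wel hbc * SpecialLinearGroup.transvection hac t) * wel hab * wel hbc := by
          rw [m1, m2]; group
      _ = SpecialLinearGroup.transvection hbc x * SpecialLinearGroup.transvection hac (-y) *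
          SpecialLinearGroup.transvection hab t * (wel hbc * wel hab * wel hbc) := by
          rw [m3]; group
      _ = _ := by rw [wel_braid hab hbc hac]
  simp only [Top_apply, map_sum, ← ρ_apply_mul]
  simp only [← mul_assoc] at hL hR ⊢
  rw [← Fintype.sum_prod_type', ← Fintype.sum_prod_type', ← Fintype.sum_prod_type',
    ← Fintype.sum_prod_type']
  refine Fintype.sum_equiv (show (F × F) × F ≃ (F × F) × F from
    { toFun := fun p => ((p.2, -(p.1.2 + p.2 * p.1.1)), p.1.1)
      invFun := fun p => ((p.2, -p.1.2 - p.1.1 * p.2), p.1.1)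
      left_inv := fun p => by obtain ⟨⟨x, y⟩, t⟩ := p; simp
      right_inv := fun p => by obtain ⟨⟨x, y⟩, t⟩ := p; simp }) _ _ fun p => ?_
  obtain ⟨⟨p1, p2⟩, p3⟩ := p
  simp only [hL, hR, Equiv.coe_fn_mk]
  ring_nf

variable [FiniteDimensional ℂ M]

/-- Two orthogonal simple roots cannot both be of Steinberg type on one vector. -/
theorem far_sign {ψ} (hψ : ψ.IsPrimitive) (hn : 3 ≤ n) {i : Fin n} (hi : i.val + 1 < n)
    (hd : dd ρ ψ i hi ≤ 1) {c d : Fin n} (hcd : c ≠ d) (hc : i.val + 2 ≤ c.val)
    (hdc : d.val = c.val + 1) (h : i ≠ ⟨i.val + 1, hi⟩) {z : M} (hz : IsB ρ z) (hz0 : z ≠ 0)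
    (h1 : Top ρ h z = -z) (h2 : Top ρ hcd z = -z) : False := by
  set j : Fin n := ⟨i.val + 1, hi⟩ with hj
  have hne1 : i ≠ c := fun e => by rw [e] at hc; omega
  have hne2 : i ≠ d := fun e => by rw [← e] at hdc; omega
  have hne3 : j ≠ c := fun e => by rw [← e] at hc; simp [hj] at hc
  have hne4 : j ≠ d := fun e => by rw [← e] at hdc; simp [hj] at hdc; omega
  set y := rootVec ρ ψ h z with hy
  have hyE : y ∈ E ρ ψ i (e1 i hi) := rootVec_mem ρ ψ hi h hz.1
  have hy0 : y ≠ 0 := by
    intro h0
    have hw := rootVec_ker ρ hψ hn h rfl hz h0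
    rw [Top_of_wel_fix ρ h rfl hz hw, eq_neg_iff_add_eq_zero] at h1
    rw [← one_smul ℂ z, smul_smul, mul_one, ← add_smul, smul_eq_zero] at h1
    have := h1.resolve_right hz0
    rw [← Nat.cast_one, ← Nat.cast_add, Nat.cast_eq_zero] at this
    omega
  have hblk : Blk (i.val + 1) (wel (F := F) hcd) := blk_wel hcd (by omega) (by omega)
  have hfix1 : (wel (F := F) hcd).1 *ᵥ (e1 i hi).1 = (e1 i hi).1 := by
    show (wel (F := F) hcd).1 *ᵥ Pi.single j 1 = Pi.single j 1
    rw [wel_mulVec_single, if_neg hne3, one_smul, Equiv.swap_apply_of_ne_of_ne hne3 hne4]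
  have hsy : ρ (wel hcd) y ∈ E ρ ψ i (e1 i hi) := map_E_blk ρ ψ hblk hfix1 hyE
  have hdim : finrank ℂ (E ρ ψ i (e1 i hi)) = 1 := by
    have h0 : finrank ℂ (E ρ ψ i (e1 i hi)) ≠ 0 := fun h0 => hy0 (by
      rw [Submodule.finrank_eq_zero] at h0; rwa [h0, Submodule.mem_bot] at hyE)
    have : finrank ℂ (E ρ ψ i (e1 i hi)) ≤ 1 := hd
    omega
  obtain ⟨lam, hlam⟩ := (finrank_eq_one_iff_of_nonzero' (⟨y, hyE⟩ : E ρ ψ i (e1 i hi))
    (fun e => hy0 (congrArg Subtype.val e))).1 hdim ⟨_, hsy⟩
  have hlam' : ρ (wel hcd) y = lam • y := (congrArg Subtype.val hlam).symm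
  have hX : ∀ x, ρ (SpecialLinearGroup.transvection hcd x) y = y := by
    intro x
    rw [hy, rootVec_apply, map_sum]
    refine Finset.sum_congr rfl fun t _ => ?_
    rw [map_smul, ← ρ_apply_mul,
      ((transvection_commute hcd h hne2.symm hne3 x t).mul_right
        (wel_commute h hcd hne1 hne2 hne3 hne4 x).symm).eq,
      ρ_apply_mul ρ _ (SpecialLinearGroup.transvection hcd x), hz.upper ρ hcd (by omega)]
  have hT1 : Top ρ hcd y = -y := by
    have : Top ρ hcd (rootVec ρ ψ h z) = rootVec ρ ψ h (Top ρ hcd z) := by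
      simp only [Top_apply, rootVec_apply, map_sum, map_smul, ← ρ_apply_mul]
      rw [Finset.sum_comm]
      refine Finset.sum_congr rfl fun t _ => ?_
      rw [Finset.smul_sum]
      refine Finset.sum_congr rfl fun x _ => ?_
      congr 2
      refine congrArg _ ?_
      exact ((transvection_commute hcd h hne2.symm hne3 x t).mul_left
        (wel_commute hcd h hne1.symm hne3.symm hne2.symm hne4.symm _)).mul_right
        ((wel_commute h hcd hne1 hne2 hne3 hne4 x).symm.mul_left
          (wel_wel_commute hcd h hne1.symm hne3.symm hne2.symm hne4.symm))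
    rw [hy, this, h2, map_neg]
  rw [Top_apply] at hT1
  simp only [ρ_apply_mul, hlam', map_smul, hX, Finset.sum_const, Finset.card_univ] at hT1
  rw [← Nat.cast_smul_eq_nsmul ℂ, smul_smul, ← neg_one_smul ℂ y] at hT1
  have hq := smul_left_injective ℂ hy0 hT1
  -- the square of the Weyl element is the sign torus element
  have h4 : wel (F := F) hcd * wel hcd * (wel hcd * wel hcd) = 1 := by
    rw [wel_sq, ← map_mul]
    have : hT c d hcd (-1 : Fˣ) * hT c d hcd (-1) = 1 := by
      apply Subtype.ext; funext x
      simp only [Subgroup.coe_mul, Pi.mul_apply, hT_apply]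
      split_ifs <;> simp
    rw [this, map_one]
  have h5 := congrArg (fun g => ρ g y) h4
  simp only [ρ_apply_mul, hlam', map_smul, map_one, Module.End.one_apply, smul_smul] at h5
  have h6 : lam * lam * lam * lam = 1 := by
    have := smul_left_injective ℂ hy0 (h5.trans (one_smul ℂ y).symm)
    rw [← this]; ring
  have h7 : (Fintype.card F : ℂ) ^ 4 = 1 := by
    linear_combination ((Fintype.card F : ℂ) * lam - 1) * ((Fintype.card F : ℂ) ^ 2 * lam ^ 2 + 1) *
      hq - (Fintype.card F : ℂ) ^ 4 * h6
  have h8 : Fintype.card F ^ 4 = 1 := by exact_mod_cast h7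
  have := Fintype.one_lt_card (α := F)
  have := Nat.le_self_pow (show (4 : ℕ) ≠ 0 by norm_num) (Fintype.card F)
  omega

end Cfsg.Agent.Lib.SLDeg48
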