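import Cfsg.Agent.Lib.SLDeg48.Translate

/-!
Intertwining operators on the space of `U_B`-fixed vectors and the torus characters on it.
-/

set_option autoImplicit false
set_option linter.unusedSectionVars false

namespace Cfsg.Agent.Lib.SLDeg48

open Matrix Module Cfsg.Agent.Lib.MinDegree
open scoped Classical

variable {F : Type*} [Field F] {n : ℕ}

theorem Low.mul {k : ℕ} {g h : SL' n F} (hg : Low k g) (hh : Low k h) : Low k (g * h) := by
  intro a b hab
  show (g.1 * h.1) a b = _
  rw [Matrix.mul_apply, Finset.sum_eq_single a]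
  · rw [hg a a (Or.inl le_rfl), one_apply_eq, one_mul, hh a b hab]
  · intro c _ hca
    by_cases hc : c ≤ a ∨ k ≤ a.val
    · rw [hg a c hc, one_apply_ne hca.symm, zero_mul]
    · push Not at hc
      have hba : b ≤ a := hab.resolve_right (by omega)
      rw [hh c b (Or.inl (hba.trans hc.1.le)), one_apply_ne, mul_zero]
      rintro rfl
      exact absurd hba (not_le.2 hc.1)
  · simp

theorem low_transvection {i j : Fin n} (h : i ≠ j) (hlt : i < j) (t : F) :
    Low n (SpecialLinearGroup.transvection h t) := by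
  intro a b hab
  rw [SpecialLinearGroup.transvection_coe, Matrix.add_apply, single_apply, if_neg, add_zero]
  rintro ⟨rfl, rfl⟩
  rcases hab with h' | h'
  · exact absurd h' (not_le.2 hlt)
  · exact absurd h' (not_le.2 i.isLt)

theorem wel_conj_apply {i j : Fin n} (h : i ≠ j) (g : SL' n F) (a b : Fin n) :
    ((wel h)⁻¹ * g * wel h).1 a b =
      (if Equiv.swap i j a = j then (-1 : F) else 1) *
        g.1 (Equiv.swap i j a) (Equiv.swap i j b) * (if b = i then (-1 : F) else 1) := by
  rw [inv_wel]
  show ((wel (F := F) h.symm).1 * g.1 * (wel (F := F) h).1) a b = _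
  rw [Matrix.mul_apply, Finset.sum_eq_single (Equiv.swap i j b)]
  · rw [wel_apply h, if_pos rfl, Matrix.mul_apply, Finset.sum_eq_single (Equiv.swap i j a)]
    · rw [wel_apply h.symm, Equiv.swap_comm j i, if_pos (Equiv.swap_apply_self i j a).symm]
    · intro c _ hc
      rw [wel_apply h.symm, if_neg, zero_mul]
      intro e
      refine hc ?_
      rw [e, Equiv.swap_comm j i, Equiv.swap_apply_self]
    · simp
  · intro c _ hc
    rw [wel_apply h, if_neg hc, mul_zero]
  · simp

theorem low_wel_conj {i j : Fin n} (h : i ≠ j) (hij : j.val = i.val + 1) {g : SL' n F}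
    (hg : Low n g) (hg0 : g.1 i j = 0) : Low n ((wel h)⁻¹ * g * wel h) := by
  intro a b hab
  have hba : b ≤ a := hab.resolve_right (fun e => absurd a.isLt (not_lt.2 e))
  rw [wel_conj_apply]
  by_cases hab' : a = b
  · subst hab'
    rw [hg _ _ (Or.inl le_rfl), one_apply_eq, one_apply_eq, mul_one]
    by_cases hai : a = i
    · subst hai; simp
    · have : Equiv.swap i j a ≠ j := by
        intro e
        refine hai ?_
        rw [← Equiv.swap_apply_self i j a, e, Equiv.swap_apply_right]
      simp [hai, this]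
  · rw [one_apply_ne hab']
    by_cases hcase : a = j ∧ b = i
    · obtain ⟨rfl, rfl⟩ := hcase
      rw [Equiv.swap_apply_left, Equiv.swap_apply_right, hg0, mul_zero, zero_mul]
    · rw [hg _ _ (Or.inl ?_), one_apply_ne (fun e => hab' ((Equiv.swap i j).injective e)),
        mul_zero, zero_mul]
      rw [Equiv.swap_apply_def, Equiv.swap_apply_def]
      grind [Fin.le_def, Fin.ext_iff]

/-- Diagonal elements of determinant one. -/
def tor (F : Type*) [Field F] (n : ℕ) : Subgroup (Fin n → Fˣ) :=
  MonoidHom.ker (MonoidHom.mk' (fun d : Fin n → Fˣ => ∏ i, d i)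
    (fun a b => Finset.prod_mul_distrib))

theorem mem_tor {d : Fin n → Fˣ} : d ∈ tor F n ↔ ∏ i, d i = 1 := Iff.rfl

/-- The diagonal embedding. -/
def diagE (F : Type*) [Field F] (n : ℕ) : tor F n →* SL' n F where
  toFun d := ⟨diagonal fun i => (d.1 i : F), by
    rw [det_diagonal, ← Units.coe_prod, mem_tor.1 d.2, Units.val_one]⟩
  map_one' := by apply Subtype.ext; simp
  map_mul' a b := by
    apply Subtype.ext
    show diagonal (fun i => ((a * b).1 i : F)) =
      diagonal (fun i => (a.1 i : F)) * diagonal (fun i => (b.1 i : F))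
    rw [diagonal_mul_diagonal]
    simp

theorem diagE_coe (d : tor F n) : (diagE F n d).1 = diagonal fun i => (d.1 i : F) := rfl

/-- Permuting a torus element. -/
def permT (σ : Equiv.Perm (Fin n)) (d : tor F n) : tor F n :=
  ⟨d.1 ∘ σ, by rw [mem_tor, Function.comp_def, Equiv.prod_comp σ d.1]; exact mem_tor.1 d.2⟩

theorem permT_apply (σ : Equiv.Perm (Fin n)) (d : tor F n) (x : Fin n) :
    (permT σ d).1 x = d.1 (σ x) := rfl

theorem permT_mul (σ : Equiv.Perm (Fin n)) (a b : tor F n) :
    permT σ (a * b) = permT σ a * permT σ b := rfl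

theorem permT_comp (σ τ : Equiv.Perm (Fin n)) (d : tor F n) :
    permT (σ * τ) d = permT τ (permT σ d) := rfl

theorem wel_diag {i j : Fin n} (h : i ≠ j) (d : tor F n) :
    diagE F n d * wel h = wel h * diagE F n (permT (Equiv.swap i j) d) := by
  have : (wel h)⁻¹ * diagE F n d * wel h = diagE F n (permT (Equiv.swap i j) d) := by
    apply Subtype.ext
    ext a b
    rw [wel_conj_apply, diagE_coe, diagE_coe]
    by_cases hab : a = b
    · subst hab
      rw [diagonal_apply_eq, diagonal_apply_eq, permT_apply, Equiv.swap_apply_def]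
      grind
    · rw [diagonal_apply_ne _ hab, diagonal_apply_ne _ (fun e => hab ((Equiv.swap i j).injective e)),
        mul_zero, zero_mul]
  rw [← this]
  group

theorem diag_mul_transvection {i j : Fin n} (h : i ≠ j) (d : tor F n) (t : F) :
    diagE F n d * SpecialLinearGroup.transvection h t =
      SpecialLinearGroup.transvection h ((d.1 i : F) * ((d.1 j)⁻¹ : Fˣ) * t) * diagE F n d :=
  diag_transvection h (diagE_coe d) (by simp [mul_assoc]) t

/-- The torus element with `a` at `i` and `a⁻¹` at `j`. -/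
def hT (i j : Fin n) (h : i ≠ j) (a : Fˣ) : tor F n :=
  ⟨Function.update (Function.update 1 i a) j a⁻¹, by
    classical
    rw [mem_tor, Finset.prod_update_of_mem (Finset.mem_univ j),
      Finset.prod_update_of_mem (by simp [h] : i ∈ Finset.univ \ {j})]
    simp⟩

theorem hT_apply {i j : Fin n} (h : i ≠ j) (a : Fˣ) (x : Fin n) :
    (hT i j h a).1 x = if x = j then a⁻¹ else if x = i then a else 1 := by
  simp only [hT, Function.update_apply, Pi.one_apply]

theorem hT_swap {i j : Fin n} (h : i ≠ j) (a : Fˣ) : hT j i h.symm a = hT i j h a⁻¹ := by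
  apply Subtype.ext; funext x
  rw [hT_apply, hT_apply, inv_inv]
  grind

theorem hT_trans {i j k : Fin n} (hij : i ≠ j) (hjk : j ≠ k) (hik : i ≠ k) (a : Fˣ) :
    hT i j hij a * hT j k hjk a = hT i k hik a := by
  apply Subtype.ext; funext x
  simp only [Subgroup.coe_mul, Pi.mul_apply, hT_apply]
  by_cases hx : x = j
  · subst hx; simp [hij.symm, hjk]
  · by_cases hx' : x = k
    · subst hx'; simp [hik.symm, hjk.symm]
    · simp [hx, hx']

theorem permT_hT (σ : Equiv.Perm (Fin n)) {i j : Fin n} (h : i ≠ j) (a : Fˣ) :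
    permT σ (hT i j h a) = hT (σ.symm i) (σ.symm j) (σ.symm.injective.ne h) a := by
  apply Subtype.ext; funext x
  simp only [permT_apply, hT_apply, Equiv.eq_symm_apply]

theorem wel_sq {i j : Fin n} (h : i ≠ j) :
    wel (F := F) h * wel h = diagE F n (hT i j h (-1)) := by
  apply Subtype.ext
  show (wel (F := F) h).1 * (wel (F := F) h).1 = _
  ext a b
  rw [diagE_coe, Matrix.mul_apply, Finset.sum_eq_single (Equiv.swap i j b)]
  · rw [wel_apply, wel_apply, if_pos rfl, Equiv.swap_apply_self]
    by_cases hab : a = b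
    · subst hab
      rw [if_pos rfl, diagonal_apply_eq, hT_apply, Equiv.swap_apply_def]
      by_cases hai : a = i
      · subst hai; simp [h, h.symm]
      · by_cases haj : a = j
        · subst haj; simp [h.symm]
        · simp [hai, haj]
    · rw [if_neg hab, diagonal_apply_ne _ hab, zero_mul]
  · intro c _ hc
    rw [wel_apply h c b, if_neg hc, mul_zero]
  · simp

theorem wel_transvection_wel {i j : Fin n} (h : i ≠ j) {y : F} (hy : y ≠ 0) :
    wel h * SpecialLinearGroup.transvection h y * wel h =
      SpecialLinearGroup.transvection h (-y⁻¹) * wel h *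
        diagE F n (hT i j h (Units.mk0 (-y) (neg_ne_zero.2 hy))) *
        SpecialLinearGroup.transvection h (-y⁻¹) := by
  apply Subtype.ext
  have hd : (diagE F n (hT i j h (Units.mk0 (-y) (neg_ne_zero.2 hy)))).1 =
      1 + single i i (-y - 1) + single j j (-y⁻¹ - 1) := by
    ext a b
    rw [diagE_coe, Matrix.add_apply, Matrix.add_apply, single_apply, single_apply,
      Matrix.one_apply]
    by_cases hab : a = b
    · subst hab
      rw [diagonal_apply_eq, hT_apply]
      by_cases hai : a = i
      · subst hai; simp [h, h.symm]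
      · by_cases haj : a = j
        · subst haj; simp [h, h.symm, inv_neg]
        · simp [hai, haj, Ne.symm hai, Ne.symm haj]
    · rw [diagonal_apply_ne _ hab]
      grind
  show (wel (F := F) h).1 * (SpecialLinearGroup.transvection h y).1 * (wel (F := F) h).1 =
    (SpecialLinearGroup.transvection h (-y⁻¹)).1 * (wel (F := F) h).1 *
      (diagE F n (hT i j h (Units.mk0 (-y) (neg_ne_zero.2 hy)))).1 *
      (SpecialLinearGroup.transvection h (-y⁻¹)).1
  rw [hd, wel_coe, SpecialLinearGroup.transvection_coe, SpecialLinearGroup.transvection_coe]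
  simp only [mul_add, add_mul, mul_sub, sub_mul, one_mul, mul_one, single_mul_single_same,
    single_mul_single_of_ne _ _ _ _ h, single_mul_single_of_ne _ _ _ _ h.symm, add_zero, zero_add,
    zero_mul, mul_zero, sub_zero, zero_sub, neg_mul, mul_neg]
  ext a b
  simp only [Matrix.add_apply, Matrix.sub_apply, Matrix.neg_apply, single_apply, Matrix.one_apply]
  grind

variable {M : Type*} [AddCommGroup M] [Module ℂ M] (ρ : Representation ℂ (SL' n F) M)

theorem Z_last : Z ρ (n - 1) = Z ρ n := by
  refine le_antisymm (fun z hz => (mem_Z ρ).2 fun g hg => (mem_Z ρ).1 hz g ?_) (Z_anti ρ (by omega))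
  intro a b hab
  rcases hab with hab | hab
  · exact hg a b (Or.inl hab)
  · by_cases hb : b ≤ a
    · exact hg a b (Or.inl hb)
    · have := b.isLt
      have : a.val < b.val := Fin.lt_def.1 (not_le.1 hb)
      omega

theorem diagE_Z (k : ℕ) (d : tor F n) {z : M} (hz : z ∈ Z ρ k) : ρ (diagE F n d) z ∈ Z ρ k :=
  map_Z ρ (nrm_diag (diagE_coe d)) hz

variable [Fintype F]

/-- The intertwining operator of a simple root. -/
noncomputable def Top {i j : Fin n} (h : i ≠ j) : M →ₗ[ℂ] M :=
  ∑ t : F, (ρ (SpecialLinearGroup.transvection h t)).comp (ρ (wel h))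

theorem Top_apply {i j : Fin n} (h : i ≠ j) (z : M) :
    Top ρ h z = ∑ t : F, ρ (SpecialLinearGroup.transvection h t * wel h) z := by
  simp [Top, LinearMap.sum_apply, ρ_apply_mul]

theorem Top_mem {i j : Fin n} (h : i ≠ j) (hij : j.val = i.val + 1) {z : M} (hz : z ∈ Z ρ n) :
    Top ρ h z ∈ Z ρ n := by
  have hlt : i < j := Fin.lt_def.2 (by omega)
  rw [mem_Z] at hz ⊢
  intro g hg
  rw [Top_apply, map_sum]
  refine Fintype.sum_equiv (Equiv.addRight (g.1 i j)) _ _ fun t => ?_
  set g' := SpecialLinearGroup.transvection h (-(t + g.1 i j)) * g *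
    SpecialLinearGroup.transvection h t
  have hg' : Low n g' :=
    ((low_transvection h hlt _).mul hg).mul (low_transvection h hlt t)
  have hg'0 : g'.1 i j = 0 := by
    show ((SpecialLinearGroup.transvection h (-(t + g.1 i j))).1 * g.1 *
      (SpecialLinearGroup.transvection h t).1) i j = 0
    rw [SpecialLinearGroup.transvection_coe, SpecialLinearGroup.transvection_coe, mul_add,
      mul_one, add_mul, one_mul, add_mul, Matrix.add_apply, Matrix.add_apply, Matrix.add_apply,
      single_mul_apply_same, mul_single_apply_same, hg j j (Or.inl le_rfl),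
      hg i i (Or.inl le_rfl), one_apply_eq, one_apply_eq, mul_single_apply_same,
      single_mul_apply_same, hg j i (Or.inl hlt.le), one_apply_ne h.symm]
    ring
  have h1 := hz _ (low_wel_conj h hij hg' hg'0)
  have h2 : g * (SpecialLinearGroup.transvection h t * wel h) =
      SpecialLinearGroup.transvection h (t + g.1 i j) * wel h * ((wel h)⁻¹ * g' * wel h) := by
    simp only [g', ← SpecialLinearGroup.transvection_inv]
    group
  rw [← ρ_apply_mul, h2, ρ_apply_mul, h1, Equiv.coe_addRight]

theorem diag_Top {i j : Fin n} (h : i ≠ j) (d : tor F n) (z : M) :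
    ρ (diagE F n d) (Top ρ h z) = Top ρ h (ρ (diagE F n (permT (Equiv.swap i j) d)) z) := by
  rw [Top_apply, Top_apply, map_sum]
  refine Fintype.sum_equiv (Equiv.mulLeft₀ ((d.1 i : F) * ((d.1 j)⁻¹ : Fˣ)) (by simp)) _ _
    fun t => ?_
  rw [← ρ_apply_mul, ← ρ_apply_mul, ← mul_assoc, diag_mul_transvection, mul_assoc, wel_diag,
    ← mul_assoc]
  rfl

theorem Top_Top {i j : Fin n} (h : i ≠ j) (hij : j.val = i.val + 1) {z : M} (hz : z ∈ Z ρ n) :
    Top ρ h (Top ρ h z) = (Fintype.card F : ℂ) • ρ (diagE F n (hT i j h (-1))) z +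
      ∑ a : Fˣ, Top ρ h (ρ (diagE F n (hT i j h a)) z) := by
  classical
  have hX : ∀ t, ρ (SpecialLinearGroup.transvection h t) z = z := fun t =>
    (mem_Z ρ).1 hz _ (low_transvection h (Fin.lt_def.2 (by omega)) t)
  have hTT : Top ρ h (Top ρ h z) = ∑ y : F, ∑ x : F,
      ρ (SpecialLinearGroup.transvection h x * (wel h * SpecialLinearGroup.transvection h y *
        wel h)) z := by
    simp only [Top_apply, map_sum, ← ρ_apply_mul, mul_assoc]
  rw [hTT, ← Finset.add_sum_erase _ _ (Finset.mem_univ (0 : F))]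
  congr 1
  · simp only [SpecialLinearGroup.transvection_coeff_zero, mul_one, wel_sq, ρ_apply_mul]
    have hmem := diagE_Z ρ n (hT i j h (-1)) hz
    rw [mem_Z] at hmem
    simp only [hmem _ (low_transvection h (Fin.lt_def.2 (by omega)) _), Finset.sum_const,
      Finset.card_univ, Nat.cast_smul_eq_nsmul ℂ]
  · refine Finset.sum_bij' (fun y hy => Units.mk0 (-y) (neg_ne_zero.2 (Finset.mem_erase.1 hy).1))
      (fun a _ => -(a : F)) (fun _ _ => Finset.mem_univ _)
      (fun a _ => Finset.mem_erase.2 ⟨neg_ne_zero.2 a.ne_zero, Finset.mem_univ _⟩)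
      (fun y hy => by simp) (fun a _ => by apply Units.ext; simp) (fun y hy => ?_)
    rw [Top_apply]
    have hy0 := (Finset.mem_erase.1 hy).1
    refine Fintype.sum_equiv (Equiv.addRight (-y⁻¹)) _ _ fun x => ?_
    rw [wel_transvection_wel h hy0, ← mul_assoc, ← mul_assoc, ← mul_assoc,
      ← SpecialLinearGroup.transvection_add, ρ_apply_mul, hX, ρ_apply_mul, Equiv.coe_addRight]

theorem Top_eq_zero {i j : Fin n} (h : i ≠ j) (hij : j.val = i.val + 1) {z : M} (hz : z ∈ Z ρ n)
    (h0 : Top ρ h z = 0) : z = 0 := by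
  have h1 := Top_Top ρ h hij hz
  have h2 : ∀ a : Fˣ, Top ρ h (ρ (diagE F n (hT i j h a)) z) = 0 := by
    intro a
    have := diag_Top ρ h (permT (Equiv.swap i j) (hT i j h a)) z
    rw [h0, map_zero, ← permT_comp, Equiv.swap_mul_self] at this
    exact this.symm
  rw [h0, map_zero, Finset.sum_eq_zero fun a _ => h2 a, add_zero, eq_comm,
    smul_eq_zero] at h1
  have h3 := h1.resolve_left (Nat.cast_ne_zero.2 Fintype.card_ne_zero)
  have := congrArg (ρ (diagE F n (hT i j h (-1)))⁻¹) h3
  rwa [← ρ_apply_mul, inv_mul_cancel, map_one, Module.End.one_apply, map_zero] at this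

end Cfsg.Agent.Lib.SLDeg48
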