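import Cfsg.Agent.Lib.SLDeg48.Elem
import Cfsg.Agent.Lib.UniDeg48.Eigen

/-!
The chain of fixed spaces of the staircase subgroups and their eigenspaces.
-/

set_option autoImplicit false
set_option linter.unusedSectionVars false

namespace Cfsg.Agent.Lib.SLDeg48

open Matrix Module Cfsg.Agent.Lib.MinDegree Cfsg.Agent.Lib.UniDeg48

variable {F : Type*} [Field F] {n : ℕ} {M : Type*} [AddCommGroup M] [Module ℂ M]
variable (ρ : Representation ℂ (SL' n F) M)

/-- The fixed space of `Low k`. -/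
def Z (k : ℕ) : Submodule ℂ M :=
  ⨅ g : {g : SL' n F // Low k g}, LinearMap.ker (ρ g.1 - 1)

theorem mem_Z {k : ℕ} {z : M} : z ∈ Z ρ k ↔ ∀ g, Low k g → ρ g z = z := by
  simp [Z, Submodule.mem_iInf, LinearMap.mem_ker, sub_eq_zero, Subtype.forall]

theorem Z_zero : Z ρ 0 = ⊤ := by
  rw [eq_top_iff]
  intro z _
  rw [mem_Z]
  intro g hg
  have : g = 1 := Subtype.ext (Matrix.ext fun a b => hg a b (Or.inr (Nat.zero_le _)))
  rw [this, map_one, Module.End.one_apply]

theorem Z_anti {k l : ℕ} (h : k ≤ l) : Z ρ l ≤ Z ρ k :=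
  fun _ hz => (mem_Z ρ).2 fun g hg => (mem_Z ρ).1 hz g (hg.mono h)

theorem ρ_apply_mul (g h : SL' n F) (z : M) : ρ (g * h) z = ρ g (ρ h z) := by
  rw [map_mul, Module.End.mul_apply]

theorem map_Z {k : ℕ} {g : SL' n F} (hg : Nrm k g) {z : M} (hz : z ∈ Z ρ k) :
    ρ g z ∈ Z ρ k := by
  rw [mem_Z] at hz ⊢
  intro h hh
  conv_lhs => rw [← ρ_apply_mul, show h * g = g * (g⁻¹ * h * g) by group, ρ_apply_mul,
    hz _ (hg h hh)]

theorem row_fix {k : Fin n} {z : M} (hz : z ∈ Z ρ (k.val + 1)) (y : tail F n k.val) :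
    ρ (row k y) z = z := (mem_Z ρ).1 hz _ (low_row k y)

theorem mem_Z_succ {k : Fin n} {z : M} :
    z ∈ Z ρ (k.val + 1) ↔ z ∈ Z ρ k.val ∧ ∀ y, ρ (row k y) z = z := by
  refine ⟨fun h => ⟨Z_anti ρ (Nat.le_succ _) h, row_fix ρ h⟩, fun h => (mem_Z ρ).2 fun g hg => ?_⟩
  obtain ⟨y, g', hg', rfl⟩ := hg.exists_row
  rw [ρ_apply_mul, (mem_Z ρ).1 h.1 g' hg', h.2 y]

variable (ψ : AddChar F ℂ)

/-- The character of the row subgroup attached to a column. -/
def ch (k : Fin n) (x : tail F n k.val) : AddChar (tail F n k.val) ℂ :=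
  ψ.compAddMonoidHom (AddMonoidHom.mk' (fun y : tail F n k.val => y.1 ⬝ᵥ x.1)
    (fun a b => add_dotProduct _ _ _))

theorem ch_apply (k : Fin n) (x y : tail F n k.val) : ch ψ k x y = ψ (y.1 ⬝ᵥ x.1) := rfl

theorem ch_zero (k : Fin n) : ch ψ k 0 = 1 := by
  ext y
  simp [ch_apply]

variable [Fintype F]

/-- Finiteness of tails. -/
noncomputable instance tailFintype (k : ℕ) : Fintype (tail F n k) := Fintype.ofFinite _

theorem card_tail (k : ℕ) : Fintype.card (tail F n k) = Fintype.card F ^ (n - k - 1) := by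
  classical
  let e : tail F n k ≃ ({j : Fin n // k < j.val} → F) :=
    { toFun := fun x j => x.1 j.1
      invFun := fun f => ⟨fun j => if h : k < j.val then f ⟨j, h⟩ else 0,
        fun j hj => dif_neg (by omega)⟩
      left_inv := fun x => by
        ext j
        by_cases h : k < j.val
        · simp [h]
        · simp [h, x.2 j (by omega)]
      right_inv := fun f => by funext j; simp [j.2] }
  let e' : {j : Fin n // k < j.val} ≃ Fin (n - k - 1) :=
    { toFun := fun j => ⟨j.1.val - k - 1, by have := j.2; have := j.1.isLt; omega⟩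
      invFun := fun j => ⟨⟨j.val + k + 1, by have := j.isLt; omega⟩, by show k < j.val + k + 1; omega⟩
      left_inv := fun j => by
        have := j.2
        apply Subtype.ext; apply Fin.ext
        show j.1.val - k - 1 + k + 1 = j.1.val
        omega
      right_inv := fun j => by
        apply Fin.ext
        show j.val + k + 1 - k - 1 = j.val
        omega }
  rw [Fintype.card_congr e, Fintype.card_fun, Fintype.card_congr e', Fintype.card_fin]

variable {ψ} (hψ : ψ.IsPrimitive)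
include hψ

theorem ch_injective (k : Fin n) : Function.Injective (ch ψ k) := by
  intro x x' h
  apply Subtype.ext
  funext j
  by_cases hj : j.val ≤ k.val
  · rw [x.2 j hj, x'.2 j hj]
  · have h1 : ψ.mulShift (x.1 j) = ψ.mulShift (x'.1 j) := by
      ext c
      have := DFunLike.congr_fun h ⟨Pi.single j c, single_mem_tail (by omega) c⟩
      rw [ch_apply, ch_apply, single_dotProduct, single_dotProduct] at this
      rwa [AddChar.mulShift_apply, AddChar.mulShift_apply, mul_comm, mul_comm (x'.1 j)]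
    exact AddChar.to_mulShift_inj_of_isPrimitive hψ h1

theorem ch_bijective (k : Fin n) : Function.Bijective (ch ψ k) := by
  rw [Fintype.bijective_iff_injective_and_card]
  exact ⟨ch_injective hψ k, AddChar.card_eq.symm⟩

omit hψ
variable (ψ)

/-- The eigenspaces of the row subgroup on `Z k`. -/
def E (k : Fin n) (x : tail F n k.val) : Submodule ℂ M :=
  Z ρ k.val ⊓ eigSub ρ (rowHom k) (ch ψ k x)

theorem mem_E {k : Fin n} {x : tail F n k.val} {z : M} :
    z ∈ E ρ ψ k x ↔ z ∈ Z ρ k.val ∧ ∀ y, ρ (row k y) z = ψ (y.1 ⬝ᵥ x.1) • z := by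
  rw [E, Submodule.mem_inf, mem_eigSub]
  rfl

theorem E_zero (k : Fin n) : E ρ ψ k 0 = Z ρ (k.val + 1) := by
  ext z
  rw [mem_E, mem_Z_succ]
  simp

/-- Dimensions of the eigenspaces add up on every invariant subspace. -/
theorem sum_inf [FiniteDimensional ℂ M] {ψ} (hψ : ψ.IsPrimitive) {k : Fin n} (R : Submodule ℂ M)
    (hR : ∀ y, ∀ z ∈ R, ρ (row k y) z ∈ R) :
    ∑ x, finrank ℂ (R ⊓ eigSub ρ (rowHom k) (ch ψ k x) : Submodule ℂ M) = finrank ℂ R := by
  let σ : Representation ℂ (Multiplicative (tail F n k.val)) R :=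
    { toFun := fun y => (ρ (rowHom k y)).restrict (fun z hz => hR y.toAdd z hz)
      map_one' := by
        apply LinearMap.ext; intro w; apply Subtype.ext
        show ρ (rowHom k 1) w.1 = w.1
        rw [map_one, map_one, Module.End.one_apply]
      map_mul' := fun g h => by
        apply LinearMap.ext; intro w; apply Subtype.ext
        show ρ (rowHom k (g * h)) w.1 = ρ (rowHom k g) (ρ (rowHom k h) w.1)
        rw [map_mul, map_mul, Module.End.mul_apply] }
  have key : ∀ x, finrank ℂ (eigSub σ (MonoidHom.id _) (ch ψ k x)) =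
      finrank ℂ (R ⊓ eigSub ρ (rowHom k) (ch ψ k x) : Submodule ℂ M) := by
    intro x
    have : eigSub σ (MonoidHom.id _) (ch ψ k x) =
        (R ⊓ eigSub ρ (rowHom k) (ch ψ k x)).comap R.subtype := by
      ext z
      simp only [mem_eigSub, Submodule.mem_comap, Submodule.subtype_apply, Submodule.mem_inf,
        z.2, true_and, Subtype.ext_iff]
      rfl
    rw [this]
    exact (Submodule.comapSubtypeEquivOfLe inf_le_left).finrank_eq
  rw [← sum_finrank_eigSub σ (MonoidHom.id _)]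
  exact Fintype.sum_bijective (ch ψ k) (ch_bijective hψ k) _ _ (fun x => (key x).symm)

theorem row_Z {k : Fin n} (y : tail F n k.val) {z : M} (hz : z ∈ Z ρ k.val) :
    ρ (row k y) z ∈ Z ρ k.val := map_Z ρ (blk_row k y).nrm hz

theorem sum_E [FiniteDimensional ℂ M] {ψ} (hψ : ψ.IsPrimitive) (k : Fin n) :
    ∑ x, finrank ℂ (E ρ ψ k x) = finrank ℂ (Z ρ k.val) :=
  sum_inf ρ hψ (Z ρ k.val) (fun y _ hz => row_Z ρ y hz)

theorem map_E {k : Fin n} {g : SL' n F} (hg : Nrm k.val g) {x x' : tail F n k.val}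
    (hconj : ∀ y : tail F n k.val, ∃ y' : tail F n k.val,
      row k y * g = g * row k y' ∧ y'.1 ⬝ᵥ x.1 = y.1 ⬝ᵥ x'.1) {z : M} (hz : z ∈ E ρ ψ k x) :
    ρ g z ∈ E ρ ψ k x' := by
  rw [mem_E] at hz ⊢
  refine ⟨map_Z ρ hg hz.1, fun y => ?_⟩
  obtain ⟨y', h1, h2⟩ := hconj y
  rw [← ρ_apply_mul, h1, ρ_apply_mul, hz.2, map_smul, h2]

/-- Conjugation of the row subgroup by a block element. -/
theorem row_mul_blk {k : Fin n} {g : SL' n F} (hg : Blk (k.val + 1) g) (y : tail F n k.val) :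
    ∃ y' : tail F n k.val, row k y * g = g * row k y' ∧ y'.1 = y.1 ᵥ* g.1 := by
  have hy' : y.1 ᵥ* g.1 ∈ tail F n k.val := by
    intro j hj
    rw [vecMul, dotProduct, Finset.sum_eq_single j]
    · rw [y.2 j hj, zero_mul]
    · intro c _ hc
      rw [hg c j (Or.inr (by omega)), one_apply_ne hc, mul_zero]
    · simp
  refine ⟨⟨_, hy'⟩, (mul_rk1 g _ _ ?_ rfl).symm, rfl⟩
  ext a
  rw [mulVec_single_one, Matrix.col_apply, hg a k (Or.inr (by omega)), Matrix.one_apply,
    Pi.single_apply]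

theorem map_E_blk {k : Fin n} {g : SL' n F} (hg : Blk (k.val + 1) g) {x x' : tail F n k.val}
    (hx : g.1 *ᵥ x.1 = x'.1) {z : M} (hz : z ∈ E ρ ψ k x) : ρ g z ∈ E ρ ψ k x' := by
  refine map_E ρ ψ (hg.mono (Nat.le_succ _)).nrm (fun y => ?_) hz
  obtain ⟨y', h1, h2⟩ := row_mul_blk hg y
  exact ⟨y', h1, by rw [h2, ← dotProduct_mulVec, hx]⟩

theorem finrank_le_of_map [FiniteDimensional ℂ M] {A B : Submodule ℂ M} (g : SL' n F)
    (h : ∀ z ∈ A, ρ g z ∈ B) : finrank ℂ A ≤ finrank ℂ B := by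
  refine LinearMap.finrank_le_finrank_of_injective (f := (ρ g).restrict h) ?_
  intro a b hab
  apply Subtype.ext
  have h1 : ρ g a.1 = ρ g b.1 := congrArg Subtype.val hab
  have h2 := congrArg (ρ g⁻¹) h1
  rwa [← ρ_apply_mul, ← ρ_apply_mul, inv_mul_cancel, map_one] at h2

variable [FiniteDimensional ℂ M]

/-- The first basis column after `k`. -/
def e1 (k : Fin n) (h : k.val + 1 < n) : tail F n k.val :=
  ⟨Pi.single ⟨k.val + 1, h⟩ 1, single_mem_tail (Nat.lt_succ_self k.val) 1⟩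

/-- The common dimension of the non-trivial eigenspaces at level `k`. -/
noncomputable def dd (k : Fin n) (h : k.val + 1 < n) : ℕ := finrank ℂ (E ρ ψ k (e1 k h))

theorem finrank_E_add {k : Fin n} (x : tail F n k.val) (u v : Fin n → F) (huv : v ⬝ᵥ u = 0)
    (hu : u ∈ tail F n k.val) (hv : v ∈ tail F n k.val) :
    finrank ℂ (E ρ ψ k x) ≤ finrank ℂ (E ρ ψ k ⟨x.1 + (v ⬝ᵥ x.1) • u,
      add_mem x.2 (Submodule.smul_mem _ _ hu)⟩) := by
  refine finrank_le_of_map ρ (rk1 u v huv) fun z hz => map_E_blk ρ ψ ?_ ?_ hz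
  · intro a b hab
    rw [rk1_apply, add_eq_left]
    rcases hab with h | h
    · rw [hu a (by omega), zero_mul]
    · rw [hv b (by omega), mul_zero]
  · show (rk1 u v huv).1 *ᵥ x.1 = _
    rw [rk1_coe, add_mulVec, one_mulVec, vecMulVec_mulVec]
    rw [op_smul_eq_smul]

theorem finrank_E_add_eq {k : Fin n} (x : tail F n k.val) (u v : Fin n → F) (huv : v ⬝ᵥ u = 0)
    (hu : u ∈ tail F n k.val) (hv : v ∈ tail F n k.val) :
    finrank ℂ (E ρ ψ k x) = finrank ℂ (E ρ ψ k ⟨x.1 + (v ⬝ᵥ x.1) • u,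
      add_mem x.2 (Submodule.smul_mem _ _ hu)⟩) := by
  refine le_antisymm (finrank_E_add ρ ψ x u v huv hu hv) ?_
  refine (finrank_E_add ρ ψ ⟨x.1 + (v ⬝ᵥ x.1) • u, add_mem x.2 (Submodule.smul_mem _ _ hu)⟩
    (-u) v (by rw [dotProduct_neg, huv, neg_zero]) (neg_mem hu) hv).trans (le_of_eq ?_)
  refine congrArg (fun w : tail F n k.val => finrank ℂ (E ρ ψ k w)) ?_
  apply Subtype.ext
  show x.1 + (v ⬝ᵥ x.1) • u + (v ⬝ᵥ (x.1 + (v ⬝ᵥ x.1) • u)) • (-u) = x.1
  rw [dotProduct_add, dotProduct_smul, huv, smul_zero, add_zero, smul_neg, add_neg_cancel_right]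

theorem finrank_E_scale (hn : 3 ≤ n) {k : Fin n} (h : k.val + 1 < n) {c : F} (hc : c ≠ 0)
    (r : F) :
    finrank ℂ (E ρ ψ k (r • e1 k h)) ≤ finrank ℂ (E ρ ψ k ((c * r) • e1 k h)) := by
  classical
  obtain ⟨l, hlk, hl1⟩ : ∃ l : Fin n, l ≠ k ∧ l ≠ ⟨k.val + 1, h⟩ := by
    by_cases h0 : k.val = 0
    · exact ⟨⟨2, by omega⟩, fun e => by simp [Fin.ext_iff] at e; omega,
        fun e => by simp [Fin.ext_iff] at e; omega⟩
    · exact ⟨⟨0, by omega⟩, fun e => by simp [Fin.ext_iff] at e; omega,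
        fun e => by simp [Fin.ext_iff] at e⟩
  set i : Fin n := ⟨k.val + 1, h⟩
  let d : Fin n → F := fun j => if j = i then c else if j = l then c⁻¹ else 1
  let g : SL' n F := SpecialLinearGroup.diag2n hl1.symm c hc
  have hg : g.1 = diagonal d := SpecialLinearGroup.diag2n_coe hl1.symm c hc
  have hdk : d k = 1 := by
    have : k ≠ i := fun e => by simp [i, Fin.ext_iff] at e
    simp [d, this, hlk.symm]
  refine finrank_le_of_map ρ g fun z hz => map_E ρ ψ (nrm_diag hg) (fun y => ?_) hz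
  have hy' : (fun b => y.1 b * d b) ∈ tail F n k.val := fun j hj => by simp [y.2 j hj]
  refine ⟨⟨_, hy'⟩, ?_, ?_⟩
  · apply Subtype.ext
    show (row k y).1 * g.1 = g.1 * (row k ⟨_, hy'⟩).1
    ext a b
    rw [hg, mul_diagonal, diagonal_mul, row_apply, row_apply]
    by_cases ha : a = k
    · subst ha
      by_cases hb : a = b
      · subst hb; simp [hdk]
      · simp [hb, hdk]
    · by_cases hb : a = b
      · subst hb; simp [ha]
      · simp [ha, hb]
  · show (fun b => y.1 b * d b) ⬝ᵥ (r • (e1 k h).1) = y.1 ⬝ᵥ ((c * r) • (e1 k h).1)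
    simp [e1, d, i, dotProduct_smul, dotProduct_single]
    ring

theorem finrank_E_eq (hn : 3 ≤ n) {k : Fin n} (h : k.val + 1 < n) {x : tail F n k.val}
    (hx : x ≠ 0) : finrank ℂ (E ρ ψ k x) = dd ρ ψ k h := by
  classical
  set i : Fin n := ⟨k.val + 1, h⟩ with hi
  have hei : (Pi.single i 1 : Fin n → F) ∈ tail F n k.val :=
    single_mem_tail (Nat.lt_succ_self k.val) 1
  have step1 : ∀ x : tail F n k.val, x.1 i ≠ 0 → finrank ℂ (E ρ ψ k x) = dd ρ ψ k h := by
    intro x hxi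
    set u : Fin n → F := -(x.1 i)⁻¹ • (x.1 - Pi.single i (x.1 i)) with hu
    have hut : u ∈ tail F n k.val :=
      Submodule.smul_mem _ _ (sub_mem x.2 (single_mem_tail (Nat.lt_succ_self k.val) _))
    have huv : (Pi.single i 1 : Fin n → F) ⬝ᵥ u = 0 := by simp [hu]
    rw [finrank_E_add_eq ρ ψ x u (Pi.single i 1) huv hut hei]
    have he : (⟨x.1 + ((Pi.single i 1 : Fin n → F) ⬝ᵥ x.1) • u,
        add_mem x.2 (Submodule.smul_mem _ _ hut)⟩ : tail F n k.val) = x.1 i • e1 k h := by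
      apply Subtype.ext
      funext j
      simp only [hu, e1, Submodule.coe_smul, Pi.add_apply, Pi.smul_apply, smul_eq_mul,
        Pi.sub_apply, single_dotProduct, one_mul, ← hi]
      by_cases hj : j = i
      · subst hj; simp
      · simp [hj, hxi]
    rw [he, dd]
    refine le_antisymm ?_ ?_
    · have := finrank_E_scale ρ ψ hn h (inv_ne_zero hxi) (x.1 i)
      rwa [inv_mul_cancel₀ hxi, one_smul] at this
    · have := finrank_E_scale ρ ψ hn h hxi 1
      rwa [one_smul, mul_one] at this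
  by_cases hxi : x.1 i = 0
  · obtain ⟨b, hb⟩ : ∃ b, x.1 b ≠ 0 := by
      by_contra hcon
      push Not at hcon
      exact hx (Subtype.ext (funext hcon))
    have hbk : k.val < b.val := by
      by_contra hcon
      exact hb (x.2 b (by omega))
    have hbi : b ≠ i := fun e => hb (e ▸ hxi)
    have huv : (Pi.single b 1 : Fin n → F) ⬝ᵥ Pi.single i 1 = 0 := by simp [hbi.symm, hbi]
    rw [finrank_E_add_eq ρ ψ x _ _ huv hei (single_mem_tail hbk 1), step1]
    simp [hxi, hb]
  · exact step1 x hxi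

/-- The dimension of `Z k`. -/
theorem finrank_Z {ψ} (hψ : ψ.IsPrimitive) (hn : 3 ≤ n) {k : Fin n} (h : k.val + 1 < n) :
    finrank ℂ (Z ρ k.val) = finrank ℂ (Z ρ (k.val + 1)) +
      (Fintype.card F ^ (n - k.val - 1) - 1) * dd ρ ψ k h := by
  classical
  rw [← sum_E ρ hψ k, ← Finset.add_sum_erase _ _ (Finset.mem_univ (0 : tail F n k.val)), E_zero,
    Finset.sum_congr rfl (fun x hx => finrank_E_eq ρ ψ hn h (Finset.mem_erase.1 hx).1),
    Finset.sum_const, smul_eq_mul, Finset.card_erase_of_mem (Finset.mem_univ _), Finset.card_univ,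
    card_tail]

end Cfsg.Agent.Lib.SLDeg48
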