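import Cfsg.Agent.Lib.SLDeg48.Level

/-!
The dimensions of the non-trivial eigenspaces decrease along the chain.
-/

set_option autoImplicit false
set_option linter.unusedSectionVars false

namespace Cfsg.Agent.Lib.SLDeg48

open Matrix Module Cfsg.Agent.Lib.MinDegree Cfsg.Agent.Lib.UniDeg48
open scoped Classical

variable {F : Type*} [Field F] {n : ℕ} {M : Type*} [AddCommGroup M] [Module ℂ M]
variable (ρ : Representation ℂ (SL' n F) M) (ψ : AddChar F ℂ)

/-- Transvection eigenvectors in `Z k`. -/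
def xE (k : ℕ) {a b : Fin n} (h : a ≠ b) : Submodule ℂ M :=
  Z ρ k ⊓ ⨅ t : F, LinearMap.ker
    (ρ (SpecialLinearGroup.transvection h t) - ψ t • (1 : Module.End ℂ M))

theorem mem_xE {k : ℕ} {a b : Fin n} {h : a ≠ b} {z : M} :
    z ∈ xE ρ ψ k h ↔
      z ∈ Z ρ k ∧ ∀ t, ρ (SpecialLinearGroup.transvection h t) z = ψ t • z := by
  simp [xE, Submodule.mem_inf, Submodule.mem_iInf, LinearMap.mem_ker, sub_eq_zero]

theorem single_dot_single {a b : Fin n} (h : a ≠ b) (t : F) :
    (Pi.single b t : Fin n → F) ⬝ᵥ Pi.single a 1 = 0 := by simp [h, h.symm]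

theorem transvection_eq_rk1 {a b : Fin n} (h : a ≠ b) (t : F) :
    SpecialLinearGroup.transvection h t =
      rk1 (Pi.single a 1) (Pi.single b t) (single_dot_single h t) := by
  apply Subtype.ext
  ext x y
  rw [rk1_apply, SpecialLinearGroup.transvection_coe, Matrix.add_apply, single_apply]
  simp only [Pi.single_apply]
  grind

theorem wel_transvection_fst {a b c : Fin n} (hab : a ≠ b) (hca : c ≠ a) (hcb : c ≠ b) (t : F) :
    wel hca * SpecialLinearGroup.transvection hab t =
      SpecialLinearGroup.transvection hcb t * wel hca := by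
  rw [transvection_eq_rk1, transvection_eq_rk1]
  refine mul_rk1 _ _ _ ?_ ?_
  · rw [wel_mulVec_single, if_neg hca.symm, one_smul, Equiv.swap_apply_right]
  · ext x
    rw [single_vecMul, Pi.smul_apply, Matrix.row_apply, wel_apply, Equiv.swap_apply_def]
    simp only [Pi.single_apply, smul_eq_mul]
    grind

theorem wel_transvection_snd {a b c : Fin n} (hab : a ≠ b) (hca : c ≠ a) (hcb : c ≠ b) (t : F) :
    wel hcb * SpecialLinearGroup.transvection hab t =
      SpecialLinearGroup.transvection hca.symm t * wel hcb := by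
  rw [transvection_eq_rk1, transvection_eq_rk1]
  refine mul_rk1 _ _ _ ?_ ?_
  · rw [wel_mulVec_single, if_neg hca.symm, one_smul, Equiv.swap_apply_of_ne_of_ne hca.symm hab]
  · ext x
    rw [single_vecMul, Pi.smul_apply, Matrix.row_apply, wel_apply, Equiv.swap_apply_def]
    simp only [Pi.single_apply, smul_eq_mul]
    grind

theorem map_xE {k : ℕ} {a b a' b' : Fin n} {h : a ≠ b} {h' : a' ≠ b'} {g : SL' n F}
    (hg : Nrm k g) (hc : ∀ t, g * SpecialLinearGroup.transvection h t =
      SpecialLinearGroup.transvection h' t * g) {z : M} (hz : z ∈ xE ρ ψ k h) :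
    ρ g z ∈ xE ρ ψ k h' := by
  rw [mem_xE] at hz ⊢
  refine ⟨map_Z ρ hg hz.1, fun t => ?_⟩
  rw [← ρ_apply_mul, ← hc, ρ_apply_mul, hz.2, map_smul]

variable [Fintype F] [FiniteDimensional ℂ M]

theorem finrank_xE_fst {k : ℕ} {a b c : Fin n} (hab : a ≠ b) (hcb : c ≠ b) (ha : k ≤ a.val)
    (hc : k ≤ c.val) : finrank ℂ (xE ρ ψ k hab) = finrank ℂ (xE ρ ψ k hcb) := by
  by_cases hca : c = a
  · subst hca; rfl
  exact le_antisymm
    (finrank_le_of_map ρ (wel hca) fun z hz => map_xE ρ ψ (blk_wel hca hc ha).nrm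
      (wel_transvection_fst hab hca hcb) hz)
    (finrank_le_of_map ρ (wel (Ne.symm hca)) fun z hz =>
      map_xE ρ ψ (blk_wel (Ne.symm hca) ha hc).nrm
      (wel_transvection_fst hcb (Ne.symm hca) hab) hz)

theorem finrank_xE_snd {k : ℕ} {a b c : Fin n} (hab : a ≠ b) (hac : a ≠ c) (hb : k ≤ b.val)
    (hc : k ≤ c.val) : finrank ℂ (xE ρ ψ k hab) = finrank ℂ (xE ρ ψ k hac) := by
  by_cases hcb : c = b
  · subst hcb; rfl
  exact le_antisymm
    (finrank_le_of_map ρ (wel hcb) fun z hz => map_xE ρ ψ (blk_wel hcb hc hb).nrm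
      (wel_transvection_snd hab hac.symm hcb) hz)
    (finrank_le_of_map ρ (wel (Ne.symm hcb)) fun z hz =>
      map_xE ρ ψ (blk_wel (Ne.symm hcb) hb hc).nrm
      (wel_transvection_snd hac hab.symm (Ne.symm hcb)) hz)

/-- Counting tails with a coordinate fixed. -/
theorem card_filter_coord {k : ℕ} (P : tail F n k → Prop) {b : Fin n}
    (hb : k < b.val) (hP : ∀ x c, P x → P (x + ⟨Pi.single b c, single_mem_tail hb c⟩)) :
    Nat.card {x // P x} = Fintype.card F * Nat.card {x // P x ∧ x.1 b = 0} := by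
  classical
  rw [← Nat.card_eq_fintype_card, ← Nat.card_prod]
  refine Nat.card_congr
    { toFun := fun x => (x.1.1 b, ⟨x.1 + ⟨Pi.single b (-x.1.1 b), single_mem_tail hb _⟩,
        hP _ _ x.2, by simp⟩)
      invFun := fun p => ⟨p.2.1 + ⟨Pi.single b p.1, single_mem_tail hb _⟩, hP _ _ p.2.2.1⟩
      left_inv := fun x => by
        apply Subtype.ext; apply Subtype.ext
        funext j
        by_cases hj : j = b
        · subst hj; simp
        · simp [hj]
      right_inv := fun p => ?_ }
  obtain ⟨c, x, hx⟩ := p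
  refine Prod.ext ?_ ?_
  · simp [hx.2]
  · apply Subtype.ext; apply Subtype.ext
    funext j
    by_cases hj : j = b
    · subst hj; simp [hx.2]
    · simp [hj]

theorem eigenProj_E {ψ} (hψ : ψ.IsPrimitive) {k : Fin n} (μ x : tail F n k.val) {z : M}
    (hz : z ∈ E ρ ψ k x) [Decidable (x = μ)] :
    eigenProj ρ (rowHom k) (ch ψ k μ) z = if x = μ then z else 0 := by
  classical
  rw [mem_E] at hz
  rw [eigenProj_apply]
  simp only [rowHom_apply, hz.2, smul_smul, ← Finset.sum_smul]
  have hcast : (Fintype.card (tail F n k.val) : ℂ) ≠ 0 := Nat.cast_ne_zero.2 Fintype.card_ne_zero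
  have hsum : ∑ a : tail F n k.val, ch ψ k μ (-a) * ψ (a.1 ⬝ᵥ x.1) =
      ∑ a : tail F n k.val, (ch ψ k x - ch ψ k μ) a := by
    refine Finset.sum_congr rfl fun a _ => ?_
    rw [AddChar.sub_apply, mul_comm, AddChar.map_neg_eq_inv, ch_apply ψ k x]
  rw [hsum, AddChar.sum_eq_ite]
  by_cases he : x = μ
  · rw [if_pos he, if_pos (by rw [he, sub_self]), inv_mul_cancel₀ hcast, one_smul]
  · rw [if_neg he, if_neg (fun h => he (ch_injective hψ k (sub_eq_zero.1 h))), mul_zero, zero_smul]

/-- The eigenspace of a root subgroup of the pivot row. -/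
theorem finrank_xE_row {ψ} (hψ : ψ.IsPrimitive) (hn : 3 ≤ n) {k : Fin n} (h : k.val + 1 < n)
    (hki : k ≠ ⟨k.val + 1, h⟩) :
    finrank ℂ (xE ρ ψ k.val hki) = Fintype.card F ^ (n - k.val - 2) * dd ρ ψ k h := by
  classical
  set i : Fin n := ⟨k.val + 1, h⟩ with hi
  have hki' : k.val < i.val := by rw [hi]; exact Nat.lt_succ_self _
  have htr : ∀ t : F, SpecialLinearGroup.transvection hki t =
      row k ⟨Pi.single i t, single_mem_tail hki' t⟩ := fun t => (row_single hki' t).symm
  have hR : ∀ y, ∀ z ∈ xE ρ ψ k.val hki, ρ (row k y) z ∈ xE ρ ψ k.val hki := fun y z hz =>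
    map_xE ρ ψ (blk_row k y).nrm (fun t => by rw [htr, ← row_add, ← row_add, add_comm]) hz
  rw [← sum_inf ρ hψ _ hR]
  have hval : ∀ x : tail F n k.val,
      finrank ℂ (xE ρ ψ k.val hki ⊓ eigSub ρ (rowHom k) (ch ψ k x) : Submodule ℂ M) =
        if x.1 i = 1 then dd ρ ψ k h else 0 := by
    intro x
    by_cases hx : x.1 i = 1
    · rw [if_pos hx, ← finrank_E_eq ρ ψ hn h (show x ≠ 0 from fun h0 => by simp [h0] at hx)]
      suffices heq : xE ρ ψ k.val hki ⊓ eigSub ρ (rowHom k) (ch ψ k x) = E ρ ψ k x by rw [heq]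
      apply le_antisymm (inf_le_inf_right _ inf_le_left)
      intro z hz
      have hz' := (mem_E ρ ψ).1 hz
      refine ⟨(mem_xE ρ ψ).2 ⟨hz'.1, fun t => ?_⟩, hz.2⟩
      rw [htr, hz'.2]
      simp [single_dotProduct, hx]
    · rw [if_neg hx, Submodule.finrank_eq_zero, Submodule.eq_bot_iff]
      rintro z ⟨hz1, hz2⟩
      rw [SetLike.mem_coe, mem_xE] at hz1
      rw [SetLike.mem_coe, mem_eigSub] at hz2
      obtain ⟨t, ht⟩ : ∃ t, ψ t ≠ ψ (x.1 i * t) := by
        by_contra hcon
        push Not at hcon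
        refine hx (AddChar.to_mulShift_inj_of_isPrimitive hψ ?_).symm
        ext t
        simpa [AddChar.mulShift_apply] using hcon t
      have h1 := hz1.2 t
      have h2 := hz2 ⟨Pi.single i t, single_mem_tail hki' t⟩
      rw [rowHom_apply, ← htr, h1, ch_apply, single_dotProduct, mul_comm t] at h2
      by_contra hz0
      exact ht (smul_left_injective ℂ hz0 h2)
  rw [Finset.sum_congr rfl fun x _ => hval x, ← Finset.sum_filter, Finset.sum_const, smul_eq_mul,
    ← Fintype.card_subtype]
  congr 1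
  rw [show n - k.val - 2 = n - (k.val + 1) - 1 by omega, ← card_tail (F := F) (k.val + 1)]
  refine Fintype.card_congr
    { toFun := fun x => ⟨x.1.1 - Pi.single i 1, fun j hj => ?_⟩
      invFun := fun y => ⟨⟨y.1 + Pi.single i 1,
        add_mem (fun j hj => y.2 j (Nat.le_succ_of_le hj)) (single_mem_tail hki' 1)⟩,
        by simp [y.2 i (by simp [hi])]⟩
      left_inv := fun x => by apply Subtype.ext; apply Subtype.ext; simp
      right_inv := fun y => by apply Subtype.ext; simp }
  by_cases hji : j = i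
  · subst hji; simp [x.2]
  · have : j.val ≤ k.val := by
      have : j.val ≠ k.val + 1 := fun e => hji (Fin.ext e)
      omega
    simp [hji, x.1.2 j this]

theorem dd_succ_le {ψ} (hψ : ψ.IsPrimitive) (hn : 3 ≤ n) {k k' : Fin n} (hk' : k'.val = k.val + 1)
    (h : k.val + 1 < n) (h' : k'.val + 1 < n) : dd ρ ψ k' h' ≤ dd ρ ψ k h := by
  classical
  set a : Fin n := ⟨n - 2, by omega⟩ with ha
  set b : Fin n := ⟨n - 1, by omega⟩ with hb
  have hab : a ≠ b := fun e => by simp [ha, hb, Fin.ext_iff] at e; omega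
  have hka : k.val < a.val := by simp [ha]; omega
  have hkb : k.val < b.val := by simp [hb]; omega
  set q := Fintype.card F
  have hlev : ∀ (j : Fin n) (hj : j.val + 1 < n),
      finrank ℂ (xE ρ ψ j.val hab) = q ^ (n - j.val - 2) * dd ρ ψ j hj := by
    intro j hj
    have hji : j ≠ ⟨j.val + 1, hj⟩ := fun e => by simp [Fin.ext_iff] at e
    have hjb : j ≠ b := fun e => by simp [hb, Fin.ext_iff] at e; omega
    rw [← finrank_xE_row ρ hψ hn hj hji,
      finrank_xE_snd ρ ψ hji hjb (Nat.le_succ _) (by simp [hb]; omega),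
      finrank_xE_fst ρ ψ hjb hab le_rfl (by simp [ha]; omega)]
  -- the regular orbits
  let Rep := {x : tail F n k.val // x.1 a = 0 ∧ x.1 b ≠ 0}
  let tr : F → SL' n F := fun t => SpecialLinearGroup.transvection hab t
  have hblk : ∀ t, Blk (k.val + 1) (tr t) := fun t => blk_transvection hab hka hkb t
  let shift : F → tail F n k.val → tail F n k.val := fun t x =>
    x + ⟨Pi.single a (t * x.1 b), single_mem_tail hka _⟩
  have htrE : ∀ t (x : tail F n k.val) z, z ∈ E ρ ψ k x → ρ (tr t) z ∈ E ρ ψ k (shift t x) := by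
    intro t x z hz
    refine map_E_blk ρ ψ (hblk t) ?_ hz
    show (SpecialLinearGroup.transvection hab t).1 *ᵥ x.1 = _
    rw [transvection_eq_rk1, rk1_coe, add_mulVec, one_mulVec, vecMulVec_mulVec, op_smul_eq_smul]
    simp [shift, single_dotProduct]
    ext j
    by_cases hj : j = a
    · subst hj; simp
    · simp [hj]
  let Φ : (xE ρ ψ k'.val hab) × ((r : Rep) → E ρ ψ k r.1) →ₗ[ℂ] M :=
    LinearMap.coprod (xE ρ ψ k'.val hab).subtype
      (∑ r : Rep, ∑ t : F, ψ (-t) • ((ρ (tr t)).comp
        ((E ρ ψ k r.1).subtype.comp (LinearMap.proj r))))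
  have hΦ : ∀ p, Φ p = p.1.1 + ∑ r : Rep, ∑ t : F, ψ (-t) • ρ (tr t) (p.2 r).1 := by
    intro p; simp [Φ, LinearMap.sum_apply]
  have hmem : ∀ p, Φ p ∈ xE ρ ψ k.val hab := by
    intro p
    rw [hΦ]
    refine Submodule.add_mem _ ?_ (Submodule.sum_mem _ fun r _ => ?_)
    · have := (mem_xE ρ ψ).1 p.1.2
      exact (mem_xE ρ ψ).2 ⟨Z_anti ρ (by omega) this.1, this.2⟩
    · rw [mem_xE]
      refine ⟨Submodule.sum_mem _ fun t _ => Submodule.smul_mem _ _
        ((mem_E ρ ψ).1 (htrE t r.1 _ (p.2 r).2)).1, fun s => ?_⟩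
      rw [map_sum, Finset.smul_sum]
      refine Fintype.sum_equiv (Equiv.addLeft s) _ _ fun t => ?_
      rw [map_smul, smul_smul, Equiv.coe_addLeft, ← ρ_apply_mul,
        ← AddChar.map_add_eq_mul, ← SpecialLinearGroup.transvection_add]
      congr 2
      ring
  have hinj : Function.Injective (Φ.codRestrict _ hmem) := by
    rw [← LinearMap.ker_eq_bot, LinearMap.ker_eq_bot']
    intro p hp
    have hp0 : Φ p = 0 := congrArg Subtype.val hp
    rw [hΦ] at hp0
    have hz0 : p.1.1 ∈ E ρ ψ k 0 := by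
      rw [E_zero]
      exact Z_anti ρ (le_of_eq hk'.symm) ((mem_xE ρ ψ).1 p.1.2).1
    have hr : ∀ r, (p.2 r).1 = 0 := by
      intro r
      have h1 := congrArg (eigenProj ρ (rowHom k) (ch ψ k r.1)) hp0
      rw [map_add, map_zero, eigenProj_E ρ hψ _ _ hz0,
        if_neg (show (0 : tail F n k.val) ≠ r.1 from fun e => r.2.2 (by rw [← e]; rfl)),
        zero_add, map_sum] at h1
      simp only [map_sum, map_smul, eigenProj_E ρ hψ _ _ (htrE _ _ _ (p.2 _).2)] at h1
      rw [Finset.sum_eq_single r] at h1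
      · rw [Finset.sum_eq_single 0] at h1
        · simpa [shift, tr] using h1
        · intro t _ ht
          rw [if_neg, smul_zero]
          intro e
          have := congrArg (fun w : tail F n k.val => w.1 a) e
          simp [shift, r.2.1, r.2.2, ht] at this
        · simp
      · intro r' _ hne
        refine Finset.sum_eq_zero fun t _ => ?_
        rw [if_neg, smul_zero]
        intro e
        have := congrArg (fun w : tail F n k.val => w.1 a) e
        refine hne (Subtype.ext (Subtype.ext ?_))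
        simp [shift, r.2.1, r'.2.1] at this
        rcases this with ht | hb0
        · subst ht; simpa [shift] using congrArg Subtype.val e
        · exact absurd hb0 r'.2.2
      · simp
    have hz : p.1.1 = 0 := by simpa [hr] using hp0
    exact Prod.ext (Subtype.ext hz) (funext fun r => Subtype.ext (hr r))
  have hle := LinearMap.finrank_le_finrank_of_injective hinj
  rw [Module.finrank_prod, Module.finrank_pi_fintype, hlev k h, hlev k' h',
    Finset.sum_congr rfl (fun (r : Rep) _ => finrank_E_eq ρ ψ hn h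
      (show r.1 ≠ 0 from fun e => r.2.2 (by rw [e]; rfl))),
    Finset.sum_const, smul_eq_mul, Finset.card_univ] at hle
  have hA := card_filter_coord (F := F) (fun x : tail F n k.val => True) hka (fun _ _ _ => trivial)
  have hB := card_filter_coord (F := F) (fun x : tail F n k.val => x.1 a = 0) hkb
    (fun x c hx => by simp [hx, hab])
  rw [Nat.card_congr (Equiv.subtypeUnivEquiv fun _ => trivial), Nat.card_eq_fintype_card,
    card_tail, Nat.card_congr (Equiv.subtypeEquivRight
      (fun x : tail F n k.val => iff_of_eq (true_and (x.1 a = 0))))] at hA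
  have hC : Nat.card {x : tail F n k.val // x.1 a = 0} =
      Nat.card {x : tail F n k.val // x.1 a = 0 ∧ x.1 b = 0} + Fintype.card Rep := by
    simp only [Rep, Nat.card_eq_fintype_card, Fintype.card_subtype]
    rw [← Finset.card_filter_add_card_filter_not (p := fun x : tail F n k.val => x.1 b = 0),
      Finset.filter_filter, Finset.filter_filter]
  set A := Nat.card {x : tail F n k.val // x.1 a = 0}
  set B := Nat.card {x : tail F n k.val // x.1 a = 0 ∧ x.1 b = 0}
  set R := Fintype.card Rep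
  obtain ⟨e, he⟩ : ∃ e, n - k.val - 1 = e + 2 := ⟨n - k.val - 3, by omega⟩
  have he1 : n - k'.val - 2 = e := by omega
  have he2 : n - k.val - 2 = e + 1 := by omega
  rw [he1, he2] at hle
  rw [he] at hA
  have hq : 0 < q := Fintype.card_pos
  have hB' : B = q ^ e := by
    have : q * (q * B) = q * (q * q ^ e) := by rw [← hB, ← hA]; ring
    exact Nat.eq_of_mul_eq_mul_left hq (Nat.eq_of_mul_eq_mul_left hq this)
  have hR' : q * q ^ e = q ^ e + R := by rw [← hB', ← hB, hC]
  have : q ^ e * dd ρ ψ k' h' ≤ q ^ e * dd ρ ψ k h := by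
    have h2 : q ^ (e + 1) * dd ρ ψ k h = q ^ e * dd ρ ψ k h + R * dd ρ ψ k h := by
      rw [pow_succ, mul_comm (q ^ e) q, hR', add_mul]
    omega
  exact Nat.le_of_mul_le_mul_left this (pow_pos hq e)

end Cfsg.Agent.Lib.SLDeg48
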