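import Cfsg.Agent.Lib.SLDeg48.Rec
import Cfsg.Agent.Lib.AutPSL.Gen

/-!
Either the row or the column subgroup has a non-zero fixed vector in a representation of
small dimension.
-/

set_option autoImplicit false
set_option linter.unusedSectionVars false

namespace Cfsg.Agent.Lib.SLDeg48

open Matrix Module
open scoped commutatorElement

variable {F : Type*} [Field F] {n : ℕ}

/-- Inverse transpose. -/
def invT (n : ℕ) (F : Type*) [Field F] : SL' n F →* SL' n F where
  toFun g := SpecialLinearGroup.transpose g⁻¹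
  map_one' := by apply Subtype.ext; simp [SpecialLinearGroup.coe_transpose]
  map_mul' g h := by
    apply Subtype.ext
    show ((g * h)⁻¹).1ᵀ = (g⁻¹).1ᵀ * (h⁻¹).1ᵀ
    rw [← transpose_mul, _root_.mul_inv_rev]
    rfl

theorem invT_invT (g : SL' n F) : invT n F (invT n F g) = g := by
  have h1 : invT n F (invT n F g) * invT n F (invT n F g⁻¹) = 1 := by
    rw [← map_mul, ← map_mul, mul_inv_cancel, map_one, map_one]
  have h2 : invT n F (invT n F g⁻¹) = g⁻¹ := by
    have h3 : invT n F g⁻¹ = SpecialLinearGroup.transpose g := by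
      show SpecialLinearGroup.transpose (g⁻¹)⁻¹ = _
      rw [inv_inv]
    show SpecialLinearGroup.transpose (invT n F g⁻¹)⁻¹ = _
    have h4 : (invT n F g⁻¹)⁻¹ = invT n F g := by rw [map_inv, inv_inv]
    rw [h4]
    apply Subtype.ext
    show ((g⁻¹).1ᵀ)ᵀ = _
    rw [transpose_transpose]
  rw [h2] at h1
  exact mul_inv_eq_one.1 h1

theorem invT_rk1 (u v : Fin n → F) (h : v ⬝ᵥ u = 0) :
    invT n F (rk1 u v h) = rk1 (-v) u (by rw [dotProduct_neg, dotProduct_comm, h, neg_zero]) := by
  have hi : (rk1 u v h)⁻¹ = rk1 u (-v) (by rw [neg_dotProduct, h, neg_zero]) := by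
    refine inv_eq_of_mul_eq_one_right ?_
    rw [rk1_mul]
    simp [rk1_zero]
  show SpecialLinearGroup.transpose (rk1 u v h)⁻¹ = _
  rw [hi]
  apply Subtype.ext
  show (1 + vecMulVec u (-v))ᵀ = 1 + vecMulVec (-v) u
  rw [transpose_add, transpose_one, transpose_vecMulVec]

theorem rk1_congr {u u' v v' : Fin n → F} (hu : u = u') (hv : v = v') (h : v ⬝ᵥ u = 0)
    (h' : v' ⬝ᵥ u' = 0) : (rk1 u v h : SL' n F) = rk1 u' v' h' := by
  subst hu; subst hv; rfl

theorem rk1_mul_left (u u' v : Fin n → F) (h : v ⬝ᵥ u = 0) (h' : v ⬝ᵥ u' = 0) :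
    rk1 u v h * rk1 u' v h' = rk1 (u + u') v (by rw [dotProduct_add, h, h', add_zero]) := by
  apply Subtype.ext
  show (1 + vecMulVec u v) * (1 + vecMulVec u' v) = 1 + vecMulVec (u + u') v
  simp only [mul_add, add_mul, mul_one, one_mul, vecMulVec_mul_vecMulVec, h', add_vecMulVec]
  ext a b
  simp [vecMulVec_apply]
  ring

variable {M : Type*} [AddCommGroup M] [Module ℂ M] (ρ : Representation ℂ (SL' n F) M)

theorem fix_rk1_col {l : Fin n} {w : M}
    (hw : ∀ (j : Fin n) (hjl : j ≠ l) (t : F),
      ρ (SpecialLinearGroup.transvection hjl t) w = w) :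
    ∀ (u : Fin n → F) (h : (Pi.single l 1 : Fin n → F) ⬝ᵥ u = 0),
      ρ (rk1 u (Pi.single l 1) h) w = w := by
  classical
  suffices hs : ∀ (s : Finset (Fin n)) (u : Fin n → F) (h : (Pi.single l 1 : Fin n → F) ⬝ᵥ u = 0),
      (∀ j, j ∉ s → u j = 0) → ρ (rk1 u (Pi.single l 1) h) w = w from
    fun u h => hs Finset.univ u h (fun j hj => absurd (Finset.mem_univ j) hj)
  intro s
  induction s using Finset.induction_on with
  | empty =>
    intro u h hu
    have h0 : u = 0 := funext fun j => hu j (Finset.notMem_empty j)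
    rw [show rk1 u (Pi.single l 1) h = 1 from Subtype.ext (by rw [rk1_coe, h0]; simp), map_one,
      Module.End.one_apply]
  | insert a s _ ih =>
    intro u h hu
    have hl : u l = 0 := by simpa [single_dotProduct] using h
    by_cases hal : a = l
    · refine ih u h fun j hj => ?_
      by_cases hja : j = a
      · subst hja; rw [hal]; exact hl
      · exact hu j (by simp [hja, hj])
    have h1 : (Pi.single l 1 : Fin n → F) ⬝ᵥ (u - Pi.single a (u a)) = 0 := by
      simp [hl, Ne.symm hal, hal]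
    have h2 : (Pi.single l 1 : Fin n → F) ⬝ᵥ Pi.single a (u a) = 0 := by simp [Ne.symm hal, hal]
    have heq : rk1 u (Pi.single l 1) h =
        rk1 (u - Pi.single a (u a)) (Pi.single l 1) h1 *
          rk1 (Pi.single a (u a)) (Pi.single l 1) h2 := by
      rw [rk1_mul_left]
      exact rk1_congr (sub_add_cancel _ _).symm rfl _ _
    have htr : SpecialLinearGroup.transvection hal (u a) =
        rk1 (Pi.single a (u a)) (Pi.single l 1) h2 := by
      apply Subtype.ext
      ext x y
      rw [rk1_apply, SpecialLinearGroup.transvection_coe, Matrix.add_apply, single_apply]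
      simp only [Pi.single_apply]
      grind
    rw [heq, ρ_apply_mul, ← htr, hw, ih]
    intro j hj
    by_cases hja : j = a
    · subst hja; simp
    · simp [hja, hu j (by simp [hja, hj])]

theorem commutator_fix {g h : SL' n F} {w : M} (hw : w ≠ 0) {c d : ℂ} (hg : ρ g w = c • w)
    (hh : ρ h w = d • w) : ρ ⁅g, h⁆ w = w := by
  have hcd : ρ (h * g) w = (c * d) • w := by rw [ρ_apply_mul, hg, map_smul, hh, smul_smul]
  have hdc : ρ (g * h) w = (c * d) • w := by
    rw [ρ_apply_mul, hh, map_smul, hg, smul_smul, mul_comm]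
  have hne : c * d ≠ 0 := by
    intro h0
    rw [h0, zero_smul] at hcd
    refine hw ?_
    have := congrArg (ρ (h * g)⁻¹) hcd
    rwa [← ρ_apply_mul, inv_mul_cancel, map_one, Module.End.one_apply, map_zero] at this
  have h1 : ρ ⁅g, h⁆ (ρ (h * g) w) = ρ (g * h) w := by
    rw [← ρ_apply_mul, commutatorElement_def]
    congr 2
    group
  rw [hcd, hdc, map_smul] at h1
  exact smul_right_injective M hne h1

/-- Conjugate scalars give trivial action. -/
theorem torus_fix {i j : Fin n} (hij : i ≠ j) {g : SL' n F} {w : M} (hw : w ≠ 0) {c : F}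
    (hc : c ≠ 1)
    (hconj : ∀ t, g * SpecialLinearGroup.transvection hij t =
      SpecialLinearGroup.transvection hij (c * t) * g)
    {e : ℂ} (hg : ρ g w = e • w)
    (hsc : ∀ t, ∃ d : ℂ, ρ (SpecialLinearGroup.transvection hij t) w = d • w) (t : F) :
    ρ (SpecialLinearGroup.transvection hij t) w = w := by
  set s := t / (c - 1)
  have ht : t = (c * s) + -s := by
    have : c - 1 ≠ 0 := sub_ne_zero.2 hc
    simp only [s]; field_simp; ring
  obtain ⟨d, hd⟩ := hsc s
  have he : e ≠ 0 := by
    intro h0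
    rw [h0, zero_smul] at hg
    refine hw ?_
    have := congrArg (ρ g⁻¹) hg
    rwa [← ρ_apply_mul, inv_mul_cancel, map_one, Module.End.one_apply, map_zero] at this
  have h1 : ρ (SpecialLinearGroup.transvection hij (c * s)) w = d • w := by
    have h2 := congrArg (fun x => ρ x w) (hconj s)
    simp only [ρ_apply_mul, hg, hd, map_smul] at h2
    rw [smul_comm] at h2
    exact (smul_right_injective M he h2).symm
  rw [ht, SpecialLinearGroup.transvection_add, ρ_apply_mul, ← SpecialLinearGroup.transvection_inv]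
  have h3 : ρ (SpecialLinearGroup.transvection hij s)⁻¹ w = d⁻¹ • w := by
    have hd0 : d ≠ 0 := by
      intro h0
      rw [h0, zero_smul] at hd
      refine hw ?_
      have := congrArg (ρ (SpecialLinearGroup.transvection hij s)⁻¹) hd
      rwa [← ρ_apply_mul, inv_mul_cancel, map_one, Module.End.one_apply, map_zero] at this
    have := congrArg (ρ (SpecialLinearGroup.transvection hij s)⁻¹) hd
    rw [← ρ_apply_mul, inv_mul_cancel, map_one, Module.End.one_apply, map_smul] at this
    rw [eq_inv_smul_iff₀ hd0]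
    exact this.symm
  rw [h3, map_smul, h1, smul_smul, inv_mul_cancel₀, one_smul]
  intro h0
  rw [h0, zero_smul] at hd
  refine hw ?_
  have := congrArg (ρ (SpecialLinearGroup.transvection hij s)⁻¹) hd
  rwa [← ρ_apply_mul, inv_mul_cancel, map_one, Module.End.one_apply, map_zero] at this

theorem diag_transvection {i j : Fin n} (hij : i ≠ j) {g : SL' n F} {d : Fin n → F}
    (hd : g.1 = diagonal d) {c : F} (hc : d i = c * d j) (t : F) :
    g * SpecialLinearGroup.transvection hij t =
      SpecialLinearGroup.transvection hij (c * t) * g := by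
  apply Subtype.ext
  show g.1 * (SpecialLinearGroup.transvection hij t).1 =
    (SpecialLinearGroup.transvection hij (c * t)).1 * g.1
  ext a b
  rw [hd, diagonal_mul, mul_diagonal, SpecialLinearGroup.transvection_coe,
    SpecialLinearGroup.transvection_coe, Matrix.add_apply, Matrix.add_apply, single_apply,
    single_apply, Matrix.one_apply]
  grind

variable [Fintype F] (ψ : AddChar F ℂ)

theorem exists_sq_ne_one (h : 4 ≤ Fintype.card F) : ∃ a : F, a ≠ 0 ∧ a ^ 2 ≠ 1 := by
  classical
  by_contra hcon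
  push Not at hcon
  have hsub : (Finset.univ : Finset F) ⊆ {0, 1, -1} := fun a _ => by
    by_cases ha : a = 0
    · simp [ha]
    · rcases sq_eq_one_iff.1 (hcon a ha) with rfl | rfl <;> simp
  have := (Finset.card_le_card hsub).trans Finset.card_le_three
  rw [Finset.card_univ] at this
  omega

theorem exists_cube_ne_one (h2 : Fintype.card F ≠ 2) (h4 : Fintype.card F ≠ 4) :
    ∃ a : F, a ≠ 0 ∧ a ^ 3 ≠ 1 := by
  classical
  have hq := Fintype.one_lt_card (α := F)
  obtain ⟨ζ, hζ⟩ := IsCyclic.exists_generator (α := Fˣ)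
  by_contra hcon
  push Not at hcon
  have h1 : ζ ^ 3 = 1 := Units.ext (hcon ζ ζ.ne_zero)
  have h3 := orderOf_dvd_of_pow_eq_one h1
  rw [orderOf_eq_card_of_forall_mem_zpowers hζ, Nat.card_eq_fintype_card, Fintype.card_units] at h3
  rcases (Nat.dvd_prime (by norm_num : Nat.Prime 3)).1 h3 with h | h <;> omega

variable [FiniteDimensional ℂ M]

/-- If the first row subgroup has no fixed vector, the last column subgroup has one. -/
theorem exists_col_fixed {ψ} (hψ : ψ.IsPrimitive) (hn : 3 ≤ n)
    (hex : (n, Fintype.card F) ≠ (3, 2) ∧ (n, Fintype.card F) ≠ (3, 4) ∧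
      (n, Fintype.card F) ≠ (4, 2) ∧ (n, Fintype.card F) ≠ (4, 3))
    (hM : 0 < finrank ℂ M) (hd : dd ρ ψ ⟨0, by omega⟩ (show 0 + 1 < n by omega) ≤ 1)
    (hZ : Z ρ 1 = ⊥) :
    ∃ w : M, w ≠ 0 ∧ ∀ (j : Fin n) (hjl : j ≠ ⟨n - 1, by omega⟩) (t : F),
      ρ (SpecialLinearGroup.transvection hjl t) w = w := by
  classical
  set k : Fin n := ⟨0, by omega⟩ with hk
  set one : Fin n := ⟨1, by omega⟩ with hone
  set l : Fin n := ⟨n - 1, by omega⟩ with hl
  have h1 : k.val + 1 < n := by simp [hk]; omega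
  have hfin := finrank_Z ρ hψ hn h1
  rw [show k.val = 0 from rfl, Z_zero, finrank_top, zero_add, hZ, finrank_bot, zero_add] at hfin
  have hd1 : finrank ℂ (E ρ ψ k (e1 k h1)) = 1 := by
    change dd ρ ψ k h1 = 1
    have h0 : dd ρ ψ k h1 ≠ 0 := fun h0 => by rw [h0, mul_zero] at hfin; omega
    have : dd ρ ψ k h1 ≤ 1 := hd
    omega
  obtain ⟨w, hwE, hw0⟩ := Submodule.exists_mem_ne_zero_of_ne_bot
    (show E ρ ψ k (e1 k h1) ≠ ⊥ from fun h => by rw [h, finrank_bot] at hd1; omega)
  have hscal : ∀ g : SL' n F, ρ g w ∈ E ρ ψ k (e1 k h1) → ∃ c : ℂ, ρ g w = c • w := by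
    intro g hg
    obtain ⟨c, hc⟩ := (finrank_eq_one_iff_of_nonzero' (⟨w, hwE⟩ : E ρ ψ k (e1 k h1))
      (fun e => hw0 (congrArg Subtype.val e))).1 hd1 ⟨_, hg⟩
    exact ⟨c, (congrArg Subtype.val hc).symm⟩
  have hroot : ∀ (i j : Fin n) (hij : i ≠ j) (t : F), 1 ≤ i.val → 2 ≤ j.val →
      ∃ c : ℂ, ρ (SpecialLinearGroup.transvection hij t) w = c • w := by
    intro i j hij t hi hj
    refine hscal _ (map_E_blk ρ ψ (blk_transvection hij (by simpa [hk] using hi)
      (by simp [hk]; omega) t) ?_ hwE)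
    show (SpecialLinearGroup.transvection hij t).1 *ᵥ (e1 k h1).1 = (e1 k h1).1
    rw [transvection_eq_rk1, rk1_coe, add_mulVec, one_mulVec, vecMulVec_mulVec, add_eq_left,
      op_smul_eq_smul]
    have : j ≠ one := fun e => by simp [hone, Fin.ext_iff] at e; omega
    simp [e1, single_dotProduct, Pi.single_apply, hk, show (⟨1, by omega⟩ : Fin n) = one from rfl,
      this, this.symm]
  refine ⟨w, hw0, fun j hjl t => ?_⟩
  have hjl' : j.val < n - 1 := by
    have := j.isLt
    have : j.val ≠ n - 1 := fun e => hjl (Fin.ext e)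
    omega
  by_cases hj0 : j.val = 0
  · obtain rfl : j = k := Fin.ext hj0
    have hkl : k.val < l.val := by simp [hk, hl]; omega
    rw [← row_single hkl t, ((mem_E ρ ψ).1 hwE).2]
    have : one ≠ l := fun e => by simp [hone, hl, Fin.ext_iff] at e; omega
    simp [e1, hk, show (⟨1, by omega⟩ : Fin n) = one from rfl, single_dotProduct, this, this.symm]
  by_cases hm : ∃ m : Fin n, 2 ≤ m.val ∧ m ≠ j ∧ m ≠ l
  · obtain ⟨m, hm1, hmj, hml⟩ := hm
    obtain ⟨c, hc⟩ := hroot j m hmj.symm t (by omega) hm1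
    obtain ⟨d, hd'⟩ := hroot m l hml 1 (by omega) (by simp [hl]; omega)
    have := commutator_fix ρ hw0 hc hd'
    rwa [AutPSL.commutator_transvection hmj.symm hml hjl, mul_one] at this
  push Not at hm
  have hn4 : n ≤ 4 := by
    by_contra hcon
    have h2 := hm ⟨2, by omega⟩ le_rfl
    have h3 := hm ⟨3, by omega⟩ (by norm_num)
    simp [Fin.ext_iff, hl] at h2 h3
    omega
  have hsc : ∀ s : F, ∃ d : ℂ, ρ (SpecialLinearGroup.transvection hjl s) w = d • w := fun s =>
    hroot j l hjl s (by omega) (by simp [hl]; omega)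
  have hdiag : ∀ (g : SL' n F) (d : Fin n → F), g.1 = diagonal d → d k = d one →
      d k ≠ 0 → ∃ c : ℂ, ρ g w = c • w := by
    intro g d hg hd01 hdk
    refine hscal g (map_E ρ ψ (nrm_diag hg) (fun y => ?_) hwE)
    have hy' : (fun b => y.1 b * d b / d k) ∈ tail F n k.val := fun b hb => by simp [y.2 b hb]
    refine ⟨⟨_, hy'⟩, ?_, ?_⟩
    · apply Subtype.ext
      show (row k y).1 * g.1 = g.1 * (row k ⟨_, hy'⟩).1
      ext a b
      rw [hg, mul_diagonal, diagonal_mul, row_apply, row_apply, Matrix.one_apply]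
      by_cases ha : a = k
      · rw [ha]
        by_cases hb : k = b
        · rw [← hb]; simp [y.2 k le_rfl]
        · simp [hb]; field_simp
      · by_cases hb : a = b
        · subst hb; simp [ha]
        · simp [ha, hb]
    · simp [e1, hk, show (⟨1, by omega⟩ : Fin n) = one from rfl, dotProduct_single]
      rw [hd01] at hdk ⊢
      field_simp
  rcases (show n = 3 ∨ n = 4 by omega) with h3 | h4
  · subst h3
    obtain ⟨a, ha0, ha3⟩ := exists_cube_ne_one (F := F)
      (fun h => hex.1 (by rw [h])) (fun h => hex.2.1 (by rw [h]))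
    let d : Fin 3 → F := ![a, a, (a ^ 2)⁻¹]
    have hdet : (diagonal d).det = 1 := by
      rw [det_diagonal, Fin.prod_univ_three]; simp [d]; field_simp
    obtain ⟨e, he⟩ := hdiag ⟨diagonal d, hdet⟩ d rfl (by simp [d, hk, hone])
      (by simpa [d, hk] using ha0)
    have hj1 : j = one := Fin.ext (by simp [hone]; omega)
    refine torus_fix ρ hjl hw0 ha3 (diag_transvection hjl (d := d) rfl ?_) he hsc t
    subst hj1
    simp [d, hone, hl]
    field_simp
  · subst h4
    have hj2 : j.val = 2 := by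
      by_contra hcon
      have := hm ⟨2, by omega⟩ le_rfl
      simp [Fin.ext_iff, hl] at this
      omega
    obtain ⟨a, ha0, ha2⟩ := exists_sq_ne_one (F := F) (by
      have hq := Fintype.one_lt_card (α := F)
      by_contra hcon
      rcases (show Fintype.card F = 2 ∨ Fintype.card F = 3 by omega) with h | h
      · exact hex.2.2.1 (by rw [h])
      · exact hex.2.2.2 (by rw [h]))
    let d : Fin 4 → F := ![1, 1, a, a⁻¹]
    have hdet : (diagonal d).det = 1 := by
      rw [det_diagonal, Fin.prod_univ_four]; simp [d]; field_simp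
    obtain ⟨e, he⟩ := hdiag ⟨diagonal d, hdet⟩ d rfl (by simp [d, hk, hone]) (by simp [d, hk])
    refine torus_fix ρ hjl hw0 ha2 (diag_transvection hjl (d := d) rfl ?_) he hsc t
    rw [show j = (2 : Fin 4) from Fin.ext hj2]
    simp [d, hl]
    field_simp

/-- A fixed vector of the last column subgroup gives one of the first row subgroup for the
inverse-transpose representation. -/
theorem Z_one_invT (hn : 2 ≤ n) {w : M} (hw : w ≠ 0)
    (h : ∀ (j : Fin n) (hjl : j ≠ ⟨n - 1, by omega⟩) (t : F),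
      ρ (SpecialLinearGroup.transvection hjl t) w = w) :
    Z (ρ.comp (invT n F)) 1 ≠ ⊥ := by
  classical
  set k : Fin n := ⟨0, by omega⟩ with hk
  set l : Fin n := ⟨n - 1, by omega⟩ with hl
  have hkl : k ≠ l := fun e => by simp [hk, hl, Fin.ext_iff] at e; omega
  rw [Submodule.ne_bot_iff]
  refine ⟨ρ (wel hkl) w, ?_, fun h0 => hw ?_⟩
  · show ρ (wel hkl) w ∈ Z _ (k.val + 1)
    rw [mem_Z_succ]
    refine ⟨by show _ ∈ Z _ 0; rw [Z_zero]; trivial, fun y => ?_⟩
    show ρ (invT n F (rk1 (Pi.single k 1) y.1 (tail_dot_single y))) (ρ (wel hkl) w) = _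
    rw [invT_rk1]
    set g := wel (F := F) hkl
    have hv : (Pi.single k 1 : Fin n → F) ᵥ* g.1 = Pi.single l 1 := by
      ext x
      rw [single_vecMul, Pi.smul_apply, Matrix.row_apply, wel_apply, Equiv.swap_apply_def]
      simp only [Pi.single_apply, smul_eq_mul]
      grind
    set u : Fin n → F := (g⁻¹).1 *ᵥ (-y.1)
    have hu : g.1 *ᵥ u = -y.1 := by
      rw [mulVec_mulVec, show g.1 * (g⁻¹).1 = 1 from congrArg Subtype.val (mul_inv_cancel g),
        one_mulVec]
    have hdot : (Pi.single l 1 : Fin n → F) ⬝ᵥ u = 0 := by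
      rw [← hv, ← dotProduct_mulVec, hu, dotProduct_neg, dotProduct_comm, tail_dot_single, neg_zero]
    rw [← ρ_apply_mul, ← mul_rk1 g hdot _ hu hv, ρ_apply_mul, fix_rk1_col ρ h u hdot]
  · have := congrArg (ρ (wel hkl)⁻¹) h0
    rwa [← ρ_apply_mul, inv_mul_cancel, map_one, Module.End.one_apply, map_zero] at this

end Cfsg.Agent.Lib.SLDeg48
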