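import Cfsg.Agent.Lib.SLDeg48.Intertwine

/-!
The torus is trivial on a small space of `U_B`-fixed vectors.
-/

set_option autoImplicit false
set_option linter.unusedSectionVars false

namespace Cfsg.Agent.Lib.SLDeg48

open Matrix Module Cfsg.Agent.Lib.MinDegree
open scoped Classical

variable {F : Type*} [Field F] {n : ℕ}
variable {M : Type*} [AddCommGroup M] [Module ℂ M] (ρ : Representation ℂ (SL' n F) M)

/-- The torus acting on the `U_B`-fixed vectors. -/
def torRep : Representation ℂ (tor F n) (Z ρ n) where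
  toFun d := (ρ (diagE F n d)).restrict (fun _ hz => diagE_Z ρ n d hz)
  map_one' := by
    apply LinearMap.ext; intro w; apply Subtype.ext
    show ρ (diagE F n 1) w.1 = w.1
    rw [map_one, map_one, Module.End.one_apply]
  map_mul' a b := by
    apply LinearMap.ext; intro w; apply Subtype.ext
    show ρ (diagE F n (a * b)) w.1 = ρ (diagE F n a) (ρ (diagE F n b) w.1)
    rw [map_mul, map_mul, Module.End.mul_apply]

/-- The tautological parametrisation of the torus. -/
def torId (F : Type*) [Field F] (n : ℕ) : Multiplicative (Additive (tor F n)) →* tor F n where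
  toFun x := Additive.toMul x.toAdd
  map_one' := rfl
  map_mul' _ _ := rfl

/-- A character of the torus composed with a permutation. -/
def permChi (σ : Equiv.Perm (Fin n)) (χ : AddChar (Additive (tor F n)) ℂ) :
    AddChar (Additive (tor F n)) ℂ :=
  χ.compAddMonoidHom (AddMonoidHom.mk'
    (fun d : Additive (tor F n) => Additive.ofMul (permT σ (Additive.toMul d))) (fun _ _ => rfl))

theorem permChi_apply (σ : Equiv.Perm (Fin n)) (χ : AddChar (Additive (tor F n)) ℂ)
    (d : Additive (tor F n)) :
    permChi σ χ d = χ (Additive.ofMul (permT σ (Additive.toMul d))) := rfl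

theorem permChi_mul (σ τ : Equiv.Perm (Fin n)) (χ : AddChar (Additive (tor F n)) ℂ) :
    permChi (σ * τ) χ = permChi σ (permChi τ χ) := by
  ext d
  rfl

/-- `χ` is trivial on the root torus of `i, j`. -/
def Ker (χ : AddChar (Additive (tor F n)) ℂ) (i j : Fin n) (h : i ≠ j) : Prop :=
  ∀ a : Fˣ, χ (Additive.ofMul (hT i j h a)) = 1

theorem chi_mul (χ : AddChar (Additive (tor F n)) ℂ) (a b : tor F n) :
    χ (Additive.ofMul (a * b)) = χ (Additive.ofMul a) * χ (Additive.ofMul b) := by
  rw [ofMul_mul, AddChar.map_add_eq_mul]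

theorem ker_symm {χ : AddChar (Additive (tor F n)) ℂ} {i j : Fin n} {h : i ≠ j} (hk : Ker χ i j h) :
    Ker χ j i h.symm := fun a => by rw [hT_swap]; exact hk _

theorem ker_trans {χ : AddChar (Additive (tor F n)) ℂ} {i j k : Fin n} {hij : i ≠ j} {hjk : j ≠ k}
    (hik : i ≠ k) (h1 : Ker χ i j hij) (h2 : Ker χ j k hjk) : Ker χ i k hik := fun a => by
  rw [← hT_trans hij hjk hik, chi_mul, h1 a, h2 a, one_mul]

/-- A transposition moving a root torus to a neighbour separates characters. -/
theorem ker_of_permChi {χ : AddChar (Additive (tor F n)) ℂ} {σ τ : Equiv.Perm (Fin n)}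
    {p r m : Fin n} (hpr : p ≠ r) (hpm : p ≠ m) (hrm : r ≠ m) (hσp : σ r = p) (hσm : σ m = m)
    (hτp : τ p = p) (hτm : τ m = m) (h : permChi σ χ = permChi τ χ) : Ker χ r p hpr.symm := by
  intro a
  have h1 := DFunLike.congr_fun h (Additive.ofMul (hT p m hpm a))
  simp only [permChi_apply, toMul_ofMul, permT_hT] at h1
  simp only [(Equiv.symm_apply_eq σ).2 hσp.symm, (Equiv.symm_apply_eq σ).2 hσm.symm,
    (Equiv.symm_apply_eq τ).2 hτp.symm, (Equiv.symm_apply_eq τ).2 hτm.symm] at h1
  have h2 : χ (Additive.ofMul (hT r m hrm a)) =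
      χ (Additive.ofMul (hT r p hpr.symm a)) * χ (Additive.ofMul (hT p m hpm a)) := by
    rw [← chi_mul, hT_trans]
  rw [h2, mul_eq_right₀] at h1
  · exact h1
  · intro h0
    have h3 : χ (Additive.ofMul (hT p m hpm a)) * χ (Additive.ofMul (hT p m hpm a)⁻¹) = 1 := by
      rw [← chi_mul, mul_inv_cancel, ofMul_one, AddChar.map_zero_eq_one]
    rw [h0, zero_mul] at h3
    exact zero_ne_one h3

variable [Fintype F]

theorem occurs_swap_adj {χ : AddChar (Additive (tor F n)) ℂ} {i j : Fin n}
    (hij : j.val = i.val + 1) (h : Occurs (torRep ρ) (torId F n) χ) :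
    Occurs (torRep ρ) (torId F n) (permChi (Equiv.swap i j) χ) := by
  have hne : i ≠ j := fun e => by simp [e] at hij
  obtain ⟨v, hv0, hv⟩ := h
  refine ⟨⟨Top ρ hne v.1, Top_mem ρ hne hij v.2⟩, fun e => hv0 (Subtype.ext ?_), fun a => ?_⟩
  · exact Top_eq_zero ρ hne hij v.2 (congrArg Subtype.val e)
  · apply Subtype.ext
    show ρ (diagE F n (Additive.toMul a)) (Top ρ hne v.1) = _
    have h1 := congrArg Subtype.val (hv (Additive.ofMul (permT (Equiv.swap i j) (Additive.toMul a))))
    change ρ (diagE F n (permT (Equiv.swap i j) (Additive.toMul a))) v.1 = _ at h1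
    rw [diag_Top, h1]
    simp [permChi_apply]

theorem occurs_swap : ∀ (m : ℕ) {χ : AddChar (Additive (tor F n)) ℂ} {i j : Fin n},
    j.val = i.val + (m + 1) → Occurs (torRep ρ) (torId F n) χ →
    Occurs (torRep ρ) (torId F n) (permChi (Equiv.swap i j) χ)
  | 0, _, _, _, hij, h => occurs_swap_adj ρ hij h
  | m + 1, χ, i, j, hij, h => by
    set y : Fin n := ⟨i.val + (m + 1), by omega⟩
    have hyi : i ≠ y := fun e => by simp [y, Fin.ext_iff] at e
    have hyj : y ≠ j := fun e => by simp [y, Fin.ext_iff] at e; omega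
    have hji : j ≠ i := fun e => by rw [e] at hij; omega
    have key : Equiv.swap i j = Equiv.swap y j * Equiv.swap i y * Equiv.swap y j := by
      rw [Equiv.swap_mul_swap_mul_swap hyi (Ne.symm hji), Equiv.swap_comm]
    rw [key, permChi_mul, permChi_mul]
    refine occurs_swap_adj ρ (by simp [y]; omega) ?_
    refine occurs_swap m (by simp [y]) ?_
    exact occurs_swap_adj ρ (by simp [y]; omega) h

theorem occurs_swap' {χ : AddChar (Additive (tor F n)) ℂ} {i j : Fin n}
    (h : Occurs (torRep ρ) (torId F n) χ) :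
    Occurs (torRep ρ) (torId F n) (permChi (Equiv.swap i j) χ) := by
  rcases lt_trichotomy i.val j.val with hlt | heq | hgt
  · exact occurs_swap ρ (j.val - i.val - 1) (by omega) h
  · rw [Fin.ext heq, Equiv.swap_self]
    exact h
  · rw [Equiv.swap_comm]
    exact occurs_swap ρ (i.val - j.val - 1) (by omega) h

variable [FiniteDimensional ℂ M]

theorem ker_all (hn : 3 ≤ n) (hc : finrank ℂ (Z ρ n) + 2 ≤ n)
    {χ : AddChar (Additive (tor F n)) ℂ} (h : Occurs (torRep ρ) (torId F n) χ)
    (i j : Fin n) (hij : i ≠ j) : Ker χ i j hij := by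
  by_contra hk
  -- transpositions with a character not in the kernel
  let f : Fin n → Equiv.Perm (Fin n) := fun l =>
    if l = i then 1 else if hl : l = j then Equiv.swap i j else
      if ∃ hil : i ≠ l, ¬ Ker χ i l hil then Equiv.swap i l else Equiv.swap j l
  have hfocc : ∀ l, Occurs (torRep ρ) (torId F n) (permChi (f l) χ) := by
    intro l
    simp only [f]
    split_ifs
    · exact h
    all_goals exact occurs_swap' ρ h
  have hf : ∀ l, l ≠ i → ∃ (p : Fin n) (hpl : p ≠ l), (p = i ∨ p = j) ∧ f l = Equiv.swap p l ∧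
      ¬ Ker χ p l hpl := by
    intro l hli
    by_cases hlj : l = j
    · subst hlj
      exact ⟨i, hij, Or.inl rfl, by simp [f, hli], hk⟩
    by_cases hex : ∃ hil : i ≠ l, ¬ Ker χ i l hil
    · obtain ⟨hil, hk'⟩ := hex
      exact ⟨i, hil, Or.inl rfl, by simp [f, hli, hlj, show ∃ hil : i ≠ l, ¬ Ker χ i l hil from
        ⟨hil, hk'⟩], hk'⟩
    · refine ⟨j, Ne.symm hlj, Or.inr rfl, by simp [f, hli, hlj, hex], fun hjl => ?_⟩
      push Not at hex
      exact hk (ker_trans hij (hex (Ne.symm hli)) (ker_symm hjl))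
  obtain ⟨s, hs1, hs2⟩ : ∃ s : Finset (Fin n), n - 2 < s.card ∧
      ∀ l ∈ s, ∀ l' ∈ s, l ≠ i → l' ≠ i → l ≠ l' → 4 ≤ n ∧ (5 ≤ n ∨ l = j ∨ l' = j) := by
    by_cases h5 : 5 ≤ n
    · exact ⟨Finset.univ, by simp; omega, fun _ _ _ _ _ _ _ => ⟨by omega, Or.inl h5⟩⟩
    by_cases h4 : n = 4
    · obtain ⟨l, hli, hlj⟩ : ∃ l : Fin n, l ≠ i ∧ l ≠ j := by
        have : 2 < (Finset.univ : Finset (Fin n)).card := by simp; omega
        obtain ⟨l, -, hl⟩ := Finset.exists_mem_notMem_of_card_lt_card
          (s := ({i, j} : Finset (Fin n))) (lt_of_le_of_lt Finset.card_le_two this)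
        exact ⟨l, by simp at hl; exact hl.1, by simp at hl; exact hl.2⟩
      refine ⟨{i, j, l}, ?_, ?_⟩
      · rw [Finset.card_insert_of_notMem (by simp [hij, hli.symm]),
          Finset.card_insert_of_notMem (by simp [hlj.symm]), Finset.card_singleton]
        omega
      · intro a ha b hb hai hbi hab
        simp at ha hb
        refine ⟨by omega, ?_⟩
        rcases ha with rfl | rfl | rfl <;> rcases hb with rfl | rfl | rfl <;> simp_all
    · refine ⟨{i, j}, by rw [Finset.card_pair hij]; omega, ?_⟩
      intro a ha b hb hai hbi hab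
      simp at ha hb
      rcases ha with rfl | rfl <;> rcases hb with rfl | rfl <;> simp_all
  have hinj : Set.InjOn (fun l => permChi (f l) χ) s := by
    have hone : ∀ l, l ≠ i → permChi (f l) χ ≠ permChi 1 χ := by
      intro l hli heq
      obtain ⟨p, hpl, -, hfl, hk'⟩ := hf l hli
      obtain ⟨m, -, hm⟩ := Finset.exists_mem_notMem_of_card_lt_card
        (s := ({p, l} : Finset (Fin n))) (t := Finset.univ)
        (lt_of_le_of_lt Finset.card_le_two (by simp; omega))
      simp at hm
      rw [hfl] at heq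
      exact hk' (ker_symm (ker_of_permChi hpl (Ne.symm hm.1) (Ne.symm hm.2)
        (Equiv.swap_apply_right _ _) (Equiv.swap_apply_of_ne_of_ne hm.1 hm.2) rfl rfl heq))
    intro l hl l' hl' heq
    by_contra hne
    by_cases hli : l = i
    · subst hli
      refine hone l' (Ne.symm hne) ?_
      simp only at heq
      rw [show f l = 1 by simp [f]] at heq
      exact heq.symm
    by_cases hli' : l' = i
    · subst hli'
      refine hone l hli ?_
      simp only at heq
      rw [show f l' = 1 by simp [f]] at heq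
      exact heq
    obtain ⟨h4, hcase⟩ := hs2 l hl l' hl' hli hli' hne
    obtain ⟨p, hpl, hp, hfl, hk1⟩ := hf l hli
    obtain ⟨p', hpl', hp', hfl', hk2⟩ := hf l' hli'
    obtain ⟨m, -, hm⟩ := Finset.exists_mem_notMem_of_card_lt_card
      (s := ({p, p', l, l'} : Finset (Fin n))) (t := Finset.univ) (by
        simp only [Finset.card_univ, Fintype.card_fin]
        by_cases hpp : p = p'
        · subst hpp
          have : ({p, p, l, l'} : Finset (Fin n)) = {p, l, l'} := by simp
          rw [this]
          exact lt_of_le_of_lt Finset.card_le_three (by omega)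
        rcases hcase with h5 | hlj | hlj
        · exact lt_of_le_of_lt Finset.card_le_four (by omega)
        · have hp'' : p = i := by rcases hp with hp | hp <;> [exact hp; exact absurd (hp.trans hlj.symm) hpl]
          have hp3 : p' = j := by rcases hp' with h | h <;> [exact absurd (hp''.trans h.symm) hpp; exact h]
          have : ({p, p', l, l'} : Finset (Fin n)) = {p, l, l'} := by rw [hp3, hlj]; simp
          rw [this]
          exact lt_of_le_of_lt Finset.card_le_three (by omega)
        · have hp'' : p' = i := by rcases hp' with hp | hp <;> [exact hp; exact absurd (hp.trans hlj.symm) hpl']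
          have hp3 : p = j := by rcases hp with h | h <;> [exact absurd (h.trans hp''.symm) hpp; exact h]
          have : ({p, p', l, l'} : Finset (Fin n)) = {p', l, l'} := by
            rw [hp3, hlj]; ext; simp
          rw [this]
          exact lt_of_le_of_lt Finset.card_le_three (by omega))
    simp at hm
    simp only [hfl, hfl'] at heq
    by_cases hp1 : l = p'
    · -- use the other end
      have h1 : l' ≠ p := fun e => by
        rcases hp with rfl | rfl <;> rcases hp' with rfl | rfl <;> simp_all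
      exact hk2 (ker_of_permChi hpl'.symm (Ne.symm hm.2.2.2) (Ne.symm hm.2.1)
        (Equiv.swap_apply_left _ _) (Equiv.swap_apply_of_ne_of_ne hm.2.1 hm.2.2.2)
        (Equiv.swap_apply_of_ne_of_ne h1 (Ne.symm hne))
        (Equiv.swap_apply_of_ne_of_ne hm.1 hm.2.2.1) heq.symm)
    · exact hk1 (ker_of_permChi hpl.symm (Ne.symm hm.2.2.1) (Ne.symm hm.1)
        (Equiv.swap_apply_left _ _) (Equiv.swap_apply_of_ne_of_ne hm.1 hm.2.2.1)
        (Equiv.swap_apply_of_ne_of_ne hp1 hne)
        (Equiv.swap_apply_of_ne_of_ne hm.2.1 hm.2.2.2) heq)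
  have hle := card_le_finrank (torRep ρ) (torId F n)
    ((fun l => permChi (f l) χ) '' (s : Set (Fin n))) (by rintro _ ⟨l, -, rfl⟩; exact hfocc l)
  rw [Nat.card_image_of_injOn hinj] at hle
  simp at hle
  omega

/-- If all root tori are killed by all occurring characters, the torus acts trivially. -/
theorem tor_fix_of_ker (hn : 3 ≤ n)
    (hker : ∀ χ, Occurs (torRep ρ) (torId F n) χ → ∀ (i j : Fin n) (h : i ≠ j), Ker χ i j h)
    (d : tor F n) {z : M} (hz : z ∈ Z ρ n) : ρ (diagE F n d) z = z := by
  by_contra hcon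
  have hne : torRep ρ (torId F n (Multiplicative.ofAdd (Additive.ofMul d))) ≠ 1 := fun h =>
    hcon (congrArg Subtype.val (LinearMap.congr_fun h ⟨z, hz⟩))
  obtain ⟨χ, hχ, hocc⟩ := exists_occurs (torRep ρ) (torId F n) hne
  refine hχ ?_
  set o : Fin n := ⟨0, by omega⟩
  have hd : d = ∏ l : Fin n, if h : l ≠ o then hT l o h (d.1 l) else 1 := by
    apply Subtype.ext
    funext x
    rw [SubmonoidClass.coe_finset_prod, Finset.prod_apply]
    by_cases hx : x = o
    · subst hx
      have h1 := mem_tor.1 d.2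
      rw [← Finset.mul_prod_erase _ _ (Finset.mem_univ o)] at h1
      rw [← Finset.mul_prod_erase _ _ (Finset.mem_univ o), dif_neg (by simp), eq_comm]
      rw [show ((1 : tor F n) : Fin n → Fˣ) o = 1 from rfl, one_mul, eq_inv_of_mul_eq_one_left h1,
        ← Finset.prod_inv_distrib]
      refine Finset.prod_congr rfl fun l hl => ?_
      rw [dif_pos (Finset.mem_erase.1 hl).1, hT_apply, if_pos rfl]
    · rw [Finset.prod_eq_single x, dif_pos hx, hT_apply, if_neg hx, if_pos rfl]
      · intro l _ hlx
        by_cases hl : l = o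
        · simp [hl]
        · rw [dif_pos hl, hT_apply, if_neg hx, if_neg (Ne.symm hlx)]
      · simp
  let φ : tor F n →* ℂ :=
    { toFun := fun d => χ (Additive.ofMul d)
      map_one' := by rw [ofMul_one, AddChar.map_zero_eq_one]
      map_mul' := chi_mul χ }
  rw [hd]
  change φ (∏ l : Fin n, if h : l ≠ o then hT l o h (d.1 l) else 1) = 1
  rw [map_prod]
  refine Finset.prod_eq_one fun l _ => ?_
  show χ (Additive.ofMul _) = 1
  split_ifs with hl
  · exact hker χ hocc l o hl _
  · rw [ofMul_one, AddChar.map_zero_eq_one]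

/-- The torus fixes a small space of `U_B`-fixed vectors. -/
theorem tor_fix (hn : 3 ≤ n) (hc : finrank ℂ (Z ρ n) + 2 ≤ n) (d : tor F n) {z : M}
    (hz : z ∈ Z ρ n) : ρ (diagE F n d) z = z :=
  tor_fix_of_ker ρ hn (fun _ h => ker_all ρ hn hc h) d hz

/-- One root torus killed by all occurring characters suffices. -/
theorem ker_of_one {p r : Fin n} (hpr : p ≠ r)
    (hker : ∀ χ, Occurs (torRep ρ) (torId F n) χ → Ker χ p r hpr)
    {χ : AddChar (Additive (tor F n)) ℂ} (hocc : Occurs (torRep ρ) (torId F n) χ)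
    (i j : Fin n) (h : i ≠ j) : Ker χ i j h := by
  set σ₁ : Equiv.Perm (Fin n) := Equiv.swap p i
  set σ₂ : Equiv.Perm (Fin n) := Equiv.swap (σ₁ r) j
  have hocc' : Occurs (torRep ρ) (torId F n) (permChi (σ₁ * σ₂) χ) := by
    rw [permChi_mul]
    exact occurs_swap' ρ (occurs_swap' ρ hocc)
  have h1 : σ₁ p = i := Equiv.swap_apply_left _ _
  have h2 : σ₂ i = i := Equiv.swap_apply_of_ne_of_ne
    (fun e => hpr (σ₁.injective (h1.trans e))) h
  have h3 : σ₂ (σ₁ r) = j := Equiv.swap_apply_left _ _
  intro a
  have := hker _ hocc' a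
  rw [permChi_apply, toMul_ofMul, permT_comp, permT_hT, permT_hT] at this
  have s1 : σ₁.symm = σ₁ := Equiv.symm_swap _ _
  have s2 : σ₂.symm = σ₂ := Equiv.symm_swap _ _
  simp only [s1, s2, h1, h2, h3] at this
  exact this

end Cfsg.Agent.Lib.SLDeg48
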