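import Cfsg.Agent.Lib.SLDeg48.Start

/-!
If the eigenspaces of the chain are at most lines, the chain never collapses: a collapse would
make many translates of a fixed space independent.
-/

set_option autoImplicit false
set_option linter.unusedSectionVars false

namespace Cfsg.Agent.Lib.SLDeg48

open Matrix Module Cfsg.Agent.Lib.MinDegree Cfsg.Agent.Lib.UniDeg48

variable {F : Type*} [Field F] [Fintype F] {n : ℕ}

theorem blk_rk1 {k : ℕ} {u v : Fin n → F} (huv : v ⬝ᵥ u = 0) (hu : u ∈ tail F n k)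
    (hv : v ∈ tail F n k) : Blk (k + 1) (rk1 u v huv) := by
  intro a b hab
  rw [rk1_apply, add_eq_left]
  rcases hab with h | h
  · rw [hu a (by omega), zero_mul]
  · rw [hv b (by omega), mul_zero]

theorem rk1_mulVec {u v : Fin n → F} (huv : v ⬝ᵥ u = 0) (x : Fin n → F) :
    (rk1 u v huv : SL' n F).1 *ᵥ x = x + (v ⬝ᵥ x) • u := by
  rw [rk1_coe, add_mulVec, one_mulVec, vecMulVec_mulVec, op_smul_eq_smul]

theorem blk_mulVec_comp {k : Fin n} {v : tail F n k.val} {g l : SL' n F}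
    (hl : Blk (k.val + 1) l) (hg : Blk (k.val + 1) g) {e : Fin n → F}
    (h : l.1 *ᵥ (g.1 *ᵥ v.1) = e) :
    ∃ l' : SL' n F, Blk (k.val + 1) l' ∧ l'.1 *ᵥ v.1 = e :=
  ⟨l * g, hl.mul hg, by show (l.1 * g.1) *ᵥ v.1 = e; rw [← mulVec_mulVec, h]⟩

theorem exists_blk_mulVec {k : Fin n} (h : k.val + 2 < n) (v : tail F n k.val) (hv : v ≠ 0) :
    ∃ l : SL' n F, Blk (k.val + 1) l ∧ l.1 *ᵥ v.1 = Pi.single ⟨k.val + 1, by omega⟩ 1 := by
  classical
  set i : Fin n := ⟨k.val + 1, by omega⟩ with hi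
  set m : Fin n := ⟨k.val + 2, h⟩ with hm
  have him : i ≠ m := fun e => by simp [hi, hm, Fin.ext_iff] at e
  have hei : ∀ c : F, (Pi.single i c : Fin n → F) ∈ tail F n k.val :=
    fun c => single_mem_tail (by simp [hi]) c
  have hem : ∀ c : F, (Pi.single m c : Fin n → F) ∈ tail F n k.val :=
    fun c => single_mem_tail (by simp [hm]) c
  have A : ∀ v : tail F n k.val, v.1 i = 1 →
      ∃ l : SL' n F, Blk (k.val + 1) l ∧ l.1 *ᵥ v.1 = Pi.single i 1 := by
    intro v hvi
    have huv : (Pi.single i 1 : Fin n → F) ⬝ᵥ (Pi.single i 1 - v.1) = 0 := by simp [hvi]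
    exact ⟨rk1 _ _ huv, blk_rk1 huv (sub_mem (hei 1) v.2) (hei 1),
      by rw [rk1_mulVec]; simp [hvi]⟩
  by_cases hvi : v.1 i = 0
  · obtain ⟨b, hb⟩ : ∃ b, v.1 b ≠ 0 := by
      by_contra hcon
      push Not at hcon
      exact hv (Subtype.ext (funext hcon))
    have hbi : b ≠ i := fun e => hb (e ▸ hvi)
    have hbk : k.val < b.val := by
      by_contra hcon
      exact hb (v.2 b (by omega))
    have huv : (Pi.single b 1 : Fin n → F) ⬝ᵥ Pi.single i (v.1 b)⁻¹ = 0 := by
      simp [hbi, hbi.symm]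
    obtain ⟨l, hl, hlv⟩ := A ⟨v.1 + Pi.single i 1, add_mem v.2 (hei 1)⟩ (by simp [hvi])
    refine blk_mulVec_comp hl (blk_rk1 huv (hei _) (single_mem_tail hbk 1)) ?_
    rw [rk1_mulVec]
    refine Eq.trans (congrArg _ ?_) hlv
    ext j
    simp [Pi.single_apply, hb]
  · have h1 : (Pi.single i 1 : Fin n → F) ⬝ᵥ Pi.single m ((1 - v.1 m) / v.1 i) = 0 := by
      simp [him, him.symm]
    have h2 : (Pi.single m 1 : Fin n → F) ⬝ᵥ Pi.single i (1 - v.1 i) = 0 := by
      simp [him, him.symm]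
    set v1 : tail F n k.val := ⟨v.1 + Pi.single m (1 - v.1 m), add_mem v.2 (hem _)⟩ with hv1
    obtain ⟨l, hl, hlv⟩ := A ⟨v1.1 + Pi.single i (1 - v.1 i), add_mem v1.2 (hei _)⟩
      (by simp [hv1, him])
    refine blk_mulVec_comp (hl.mul (blk_rk1 h2 (hei _) (hem 1))) (blk_rk1 h1 (hem _) (hei 1)) ?_
    show (l.1 * (rk1 _ _ h2).1) *ᵥ ((rk1 _ _ h1).1 *ᵥ v.1) = _
    rw [← mulVec_mulVec, rk1_mulVec h1, rk1_mulVec h2]
    refine Eq.trans (congrArg _ ?_) hlv
    ext j
    by_cases hji : j = i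
    · subst hji
      simp [hv1, him, him.symm, single_dotProduct, hvi]
      field_simp
      ring
    · by_cases hjm : j = m
      · subst hjm
        simp [hv1, hji, single_dotProduct, hvi]
        field_simp
        ring
      · simp [hv1, hji, hjm, single_dotProduct]

variable {M : Type*} [AddCommGroup M] [Module ℂ M] (ρ : Representation ℂ (SL' n F) M)
variable (ψ : AddChar F ℂ)

/-- Projection onto the fixed space of the row subgroup. -/
noncomputable def P0 (k : Fin n) : M →ₗ[ℂ] M := eigenProj ρ (rowHom k) (ch ψ k 0)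

theorem P0_apply (k : Fin n) (z : M) :
    P0 ρ ψ k z =
      (Fintype.card (tail F n k.val) : ℂ)⁻¹ • ∑ y : tail F n k.val, ρ (row k y) z := by
  rw [P0, eigenProj_apply, ch_zero]
  simp [rowHom_apply]

theorem P0_row (k : Fin n) (y : tail F n k.val) (z : M) :
    P0 ρ ψ k (ρ (row k y) z) = P0 ρ ψ k z := by
  rw [P0_apply, P0_apply]
  congr 1
  refine Fintype.sum_equiv (Equiv.addRight y) _ _ fun a => ?_
  rw [← ρ_apply_mul, ← row_add, Equiv.coe_addRight]

theorem P0_blk {k : Fin n} {g : SL' n F} (hg : Blk (k.val + 1) g) (z : M) :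
    P0 ρ ψ k (ρ g z) = ρ g (P0 ρ ψ k z) := by
  classical
  rw [P0_apply, P0_apply, map_smul, map_sum]
  congr 1
  choose f hf1 hf2 using fun y => row_mul_blk hg y
  have hinj : Function.Injective f := by
    intro a b hab
    apply Subtype.ext
    have h2 : a.1 ᵥ* g.1 = b.1 ᵥ* g.1 := by rw [← hf2, ← hf2, hab]
    have h3 : a.1 ᵥ* g.1 ᵥ* (g⁻¹).1 = b.1 ᵥ* g.1 ᵥ* (g⁻¹).1 := by rw [h2]
    rwa [vecMul_vecMul, vecMul_vecMul,
      show g.1 * (g⁻¹).1 = 1 from congrArg Subtype.val (mul_inv_cancel g), vecMul_one,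
      vecMul_one] at h3
  refine Fintype.sum_bijective f (Finite.injective_iff_bijective.1 hinj) _ _ fun y => ?_
  rw [← ρ_apply_mul, ← ρ_apply_mul, hf1]

theorem P0_mem {k : Fin n} {z : M} (hz : z ∈ Z ρ k.val) : P0 ρ ψ k z ∈ Z ρ (k.val + 1) := by
  rw [mem_Z_succ]
  refine ⟨?_, fun y => ?_⟩
  · rw [P0_apply]
    exact Submodule.smul_mem _ _ (Submodule.sum_mem _ fun y _ => row_Z ρ y hz)
  · have := eigenProj_mem ρ (rowHom k) (ch ψ k 0) z y
    rw [show ch ψ k 0 y = 1 by simp [ch_apply], one_smul] at this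
    exact this

theorem P0_fix {k : Fin n} {z : M} (hz : z ∈ Z ρ (k.val + 1)) :
    P0 ρ ψ k z = z := by
  rw [P0_apply]
  simp only [row_fix ρ hz, Finset.sum_const, Finset.card_univ]
  rw [← Nat.cast_smul_eq_nsmul ℂ, smul_smul,
    inv_mul_cancel₀ (Nat.cast_ne_zero.2 Fintype.card_ne_zero), one_smul]

theorem P0_translate {k : Fin n} (h : k.val + 2 < n) (hbot : Z ρ (k.val + 2) = ⊥) {w : M}
    (hw : w ∈ Z ρ (k.val + 1)) {g : SL' n F} (hg : Blk k.val g) {c : F} {v : tail F n k.val}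
    (hv : v ≠ 0) (hge : g.1 *ᵥ Pi.single k 1 = c • Pi.single k 1 + v.1) :
    P0 ρ ψ k (ρ g w) = 0 := by
  classical
  set i : Fin n := ⟨k.val + 1, by omega⟩ with hi
  obtain ⟨l, hl, hlv⟩ := exists_blk_mulVec h v hv
  set g' := l * g with hg'
  have hg'b : Blk k.val g' := (hl.mono (Nat.le_succ _)).mul hg
  have hle : l.1 *ᵥ Pi.single k 1 = Pi.single k 1 := by
    ext a
    rw [mulVec_single_one, Matrix.col_apply, hl a k (Or.inr (by omega)), Matrix.one_apply,
      Pi.single_apply]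
  have hg'e : g'.1 *ᵥ Pi.single k 1 = c • Pi.single k 1 + Pi.single i 1 := by
    show (l.1 * g.1) *ᵥ _ = _
    rw [← mulVec_mulVec, hge, mulVec_add, mulVec_smul, hle, hlv]
  suffices h0 : P0 ρ ψ k (ρ g' w) = 0 by
    rw [hg', ρ_apply_mul, P0_blk ρ ψ hl] at h0
    have := congrArg (ρ l⁻¹) h0
    rwa [← ρ_apply_mul, inv_mul_cancel, map_one, Module.End.one_apply, map_zero] at this
  set z := P0 ρ ψ k (ρ g' w)
  have hz : z ∈ Z ρ (k.val + 1) :=
    P0_mem ρ ψ (map_Z ρ hg'b.nrm (Z_anti ρ (Nat.le_succ _) hw))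
  have hzi : z ∈ Z ρ (i.val + 1) := by
    rw [mem_Z_succ]
    refine ⟨hz, fun y => ?_⟩
    have hy : y.1 ∈ tail F n k.val := fun j hj => y.2 j (by simp [hi]; omega)
    have hyk : y.1 k = 0 := hy k le_rfl
    have hyi : y.1 i = 0 := y.2 i le_rfl
    have hy'' : y.1 ᵥ* g'.1 ∈ tail F n k.val := by
      intro j hj
      by_cases hjk : j = k
      · rw [hjk]
        have : (y.1 ᵥ* g'.1) k = y.1 ⬝ᵥ (g'.1 *ᵥ Pi.single k 1) := by
          rw [dotProduct_mulVec, dotProduct_single, mul_one]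
        rw [this, hg'e]
        simp [dotProduct_add, dotProduct_single, hyk, hyi]
      · rw [vecMul, dotProduct, Finset.sum_eq_single j]
        · rw [hy j hj, zero_mul]
        · intro a _ ha
          rw [hg'b a j (Or.inr (lt_of_le_of_ne hj fun e => hjk (Fin.ext e))), one_apply_ne ha,
            mul_zero]
        · simp
    have hdot : y.1 ⬝ᵥ (c • Pi.single k 1 + Pi.single i 1) = 0 := by
      simp [dotProduct_add, dotProduct_single, hyk, hyi]
    have hu : rk1 (c • Pi.single k 1 + Pi.single i 1) y.1 hdot =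
        row k (c • ⟨y.1, hy⟩) * row i y := by
      have h1 : y.1 ⬝ᵥ (c • Pi.single k 1) = 0 := by simp [dotProduct_single, hyk]
      have h2 : row k (c • ⟨y.1, hy⟩) = rk1 (c • Pi.single k 1) y.1 h1 := by
        apply Subtype.ext
        ext a b
        rw [row_apply, rk1_apply]
        simp [Pi.single_apply]
      rw [h2, row, rk1_mul_left]
    have heq := mul_rk1 g' (u := Pi.single k 1) (v := y.1 ᵥ* g'.1)
      (tail_dot_single ⟨_, hy''⟩) hdot hg'e rfl
    have h3 : ρ g' (ρ (row k ⟨_, hy''⟩) w) = ρ (row k (c • ⟨y.1, hy⟩) * row i y) (ρ g' w) := by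
      rw [← ρ_apply_mul, ← ρ_apply_mul, ← hu, ← heq]
      rfl
    rw [row_fix ρ hw, ρ_apply_mul ρ (row k _) (row i y)] at h3
    have h4 := congrArg (P0 ρ ψ k) h3
    rw [P0_row, P0_blk ρ ψ (show Blk (k.val + 1) (row i y) from blk_row i y)] at h4
    exact h4.symm
  rw [show i.val + 1 = k.val + 2 from rfl, hbot] at hzi
  exact (Submodule.mem_bot ℂ).1 hzi

variable [FiniteDimensional ℂ M]

theorem Z_step {ψ} (hψ : ψ.IsPrimitive) (hn : 3 ≤ n) {k : Fin n} (h : k.val + 2 < n)
    (hd : dd ρ ψ k (by omega) ≤ 1) (hW : Z ρ (k.val + 1) ≠ ⊥) : Z ρ (k.val + 2) ≠ ⊥ := by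
  classical
  intro hbot
  set i : Fin n := ⟨k.val + 1, by omega⟩ with hi
  have hik : i ≠ k := fun e => by simp [hi, Fin.ext_iff] at e
  let T : Option (tail F n k.val) → SL' n F
    | none => wel hik
    | some a => rk1 a.1 (Pi.single k 1) (by simp [a.2 k le_rfl])
  have hTb : ∀ o, Blk k.val (T o) := by
    rintro (_ | a)
    · exact blk_wel hik (Nat.le_succ _) le_rfl
    · intro x y hxy
      show (rk1 a.1 (Pi.single k 1) _).1 x y = _
      rw [rk1_apply, add_eq_left]
      rcases hxy with hx | hy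
      · rw [a.2 x (by omega), zero_mul]
      · rw [Pi.single_apply, if_neg, mul_zero]
        rintro rfl
        omega
  let W := Z ρ (k.val + 1)
  let Φ : (Option (tail F n k.val) → W) →ₗ[ℂ] M :=
    ∑ o, (ρ (T o)).comp (W.subtype.comp (LinearMap.proj o))
  have hΦ : ∀ f, Φ f = ∑ o, ρ (T o) (f o).1 := fun f => by simp [Φ, LinearMap.sum_apply]
  have hmem : ∀ f, Φ f ∈ Z ρ k.val := fun f => by
    rw [hΦ]
    exact Submodule.sum_mem _ fun o _ =>
      map_Z ρ (hTb o).nrm (Z_anti ρ (Nat.le_succ _) (f o).2)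
  have hinj : Function.Injective (Φ.codRestrict _ hmem) := by
    rw [← LinearMap.ker_eq_bot, LinearMap.ker_eq_bot']
    intro f hf
    have hf0 : Φ f = 0 := congrArg Subtype.val hf
    rw [hΦ] at hf0
    have hsome : ∀ a, (f (some a)).1 = 0 := by
      intro a
      have h1 := congrArg (fun x => P0 ρ ψ k (ρ (T (some (-a))) x)) hf0
      simp only [map_sum, map_zero, ← ρ_apply_mul] at h1
      rw [Fintype.sum_option, Finset.sum_eq_single a] at h1
      · have hga : T (some (-a)) * T (some a) = 1 := by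
          show rk1 (-a).1 _ _ * rk1 a.1 _ _ = 1
          rw [rk1_mul_left]
          apply Subtype.ext
          simp [rk1_coe]
        rw [hga, map_one, Module.End.one_apply, P0_fix ρ ψ (f (some a)).2,
          P0_translate ρ ψ h hbot (f none).2 ((hTb (some (-a))).mul (hTb none)) (c := 0)
            (v := e1 k (by omega)) ?_ ?_, zero_add] at h1
        · exact h1
        · intro e
          have := congrArg (fun w : tail F n k.val => w.1 i) e
          simp [e1, hi] at this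
        · show ((rk1 (-a).1 (Pi.single k 1) _).1 * (wel hik).1) *ᵥ Pi.single k 1 = _
          rw [← mulVec_mulVec, wel_mulVec_single, if_neg hik.symm, one_smul,
            Equiv.swap_apply_right, rk1_mulVec]
          have hki : (⟨k.val + 1, by omega⟩ : Fin n) ≠ k := hik
          simp [e1, hi, hki, hki.symm]
      · intro b _ hba
        refine P0_translate ρ ψ h hbot (f (some b)).2 ((hTb (some (-a))).mul (hTb (some b))) (c := 1)
          (v := b - a) (sub_ne_zero.2 hba) ?_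
        show ((rk1 (-a).1 (Pi.single k 1) _).1 * (rk1 b.1 (Pi.single k 1) _).1) *ᵥ
          Pi.single k 1 = _
        rw [← mulVec_mulVec, rk1_mulVec, rk1_mulVec]
        simp [a.2 k le_rfl, b.2 k le_rfl]
        abel
      · simp
    funext o
    rcases o with _ | a
    · rw [Fintype.sum_option] at hf0
      simp only [hsome, map_zero, Finset.sum_const_zero, add_zero] at hf0
      have := congrArg (ρ (T none)⁻¹) hf0
      rw [← ρ_apply_mul, inv_mul_cancel, map_one, Module.End.one_apply, map_zero] at this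
      exact Subtype.ext this
    · exact Subtype.ext (hsome a)
  have hle := LinearMap.finrank_le_finrank_of_injective hinj
  rw [Module.finrank_pi_fintype, Finset.sum_const, smul_eq_mul, Finset.card_univ,
    Fintype.card_option, card_tail, finrank_Z ρ hψ hn (show k.val + 1 < n by omega)] at hle
  have hpos : 0 < finrank ℂ W := Module.finrank_pos_iff.2 (Submodule.nontrivial_iff_ne_bot.2 hW)
  have h2 : (Fintype.card F ^ (n - k.val - 1) - 1) * dd ρ ψ k (by omega) ≤
      Fintype.card F ^ (n - k.val - 1) - 1 :=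
    (Nat.mul_le_mul_left _ hd).trans (le_of_eq (mul_one _))
  have h3 : 0 < Fintype.card F ^ (n - k.val - 1) := pow_pos Fintype.card_pos _
  have h4 : Fintype.card F ^ (n - k.val - 1) ≤
      Fintype.card F ^ (n - k.val - 1) * finrank ℂ W := Nat.le_mul_of_pos_right _ hpos
  rw [add_mul, one_mul] at hle
  change _ ≤ finrank ℂ W + _ at hle
  omega

theorem Z_ne_bot {ψ} (hψ : ψ.IsPrimitive) (hn : 3 ≤ n) (hd : ∀ (k : Fin n) (h : k.val + 1 < n),
    dd ρ ψ k h ≤ 1) (h1 : Z ρ 1 ≠ ⊥) : ∀ j, j < n → Z ρ j ≠ ⊥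
  | 0, _ => fun h => h1 (le_bot_iff.1 (h ▸ Z_anti ρ (Nat.zero_le 1)))
  | 1, _ => h1
  | j + 2, hj => Z_step ρ hψ hn (k := ⟨j, by omega⟩) hj (hd _ _)
      (Z_ne_bot hψ hn hd h1 (j + 1) (by omega))

end Cfsg.Agent.Lib.SLDeg48
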